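import Groth.Agent.OmegaSheaf.UnivThick.Basic
import Groth.Agent.OmegaSheaf.ConormalPull

/-!
# First order thickenings under base change and composition
-/

universe u

open CategoryTheory Limits AlgebraicGeometry Opposite TopologicalSpace

namespace Groth.OmegaSheaf.UnivThick

open MoreMor (IsFirstOrderThickening)

variable {Z Z' W W' : Scheme.{u}}

/-- Base changes of first order thickenings are first order thickenings. -/
theorem fot_baseChange {f : Z ⟶ W} {i : Z ⟶ Z'} {j : W ⟶ W'} {p : Z' ⟶ W'}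
    (sq : IsPullback i f p j) (hj : IsFirstOrderThickening j) : IsFirstOrderThickening i := by
  have := isClosedImmersion_of_fot hj
  have := surjective_of_fot hj
  have : IsClosedImmersion i := MorphismProperty.of_isPullback sq.flip ‹IsClosedImmersion j›
  have : Surjective i := MorphismProperty.of_isPullback sq.flip ‹Surjective j›
  refine fot_of_forall i fun A _ x y hx hy ↦ Z'.IsSheaf.section_ext fun z hz ↦ ?_
  obtain ⟨_, ⟨O, hO, rfl⟩, hzO, -⟩ :=
    W'.isBasis_affineOpens.exists_subset_of_mem_open (Set.mem_univ (p z)) isOpen_univ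
  obtain ⟨_, ⟨B, hB, rfl⟩, hzB, hBle⟩ := Z'.isBasis_affineOpens.exists_subset_of_mem_open
    (show z ∈ A ⊓ p ⁻¹ᵁ O from ⟨hz, hzO⟩) (A ⊓ p ⁻¹ᵁ O).2
  have hle : B ≤ A := fun q hq ↦ (hBle hq).1
  have hle' : B ≤ p ⁻¹ᵁ O := fun q hq ↦ (hBle hq).2
  refine ⟨B, hle, hzB, ?_⟩
  have eT : i ⁻¹ᵁ B ≤ f ⁻¹ᵁ (j ⁻¹ᵁ O) := by
    rw [← Scheme.Hom.comp_preimage, ← sq.w]
    exact i.preimage_mono hle'
  have hUY : i ⁻¹ᵁ B = i ⁻¹ᵁ B ⊓ f ⁻¹ᵁ (j ⁻¹ᵁ O) := (inf_eq_left.mpr eT).symm
  have hpo := ((isIso_pushoutSection_iff (H := sq) le_rfl hle' hUY).mp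
    (isIso_pushoutSection_of_isAffineOpen sq le_rfl hle' hUY hO (hO.preimage j) hB)).flip
  have hker := Groth.OmegaSheaf.ker_le_map_of_isPushout hpo
    (by rw [← Scheme.Hom.app_eq_appLE]; exact j.app_surjective O hO)
  rw [← Scheme.Hom.app_eq_appLE, ← Scheme.Hom.app_eq_appLE] at hker
  have key : ∀ t : Γ(Z', A), i.app A t = 0 → Z'.presheaf.map (homOfLE hle).op t ∈
      (RingHom.ker (j.app O).hom).map (p.appLE O B hle').hom := fun t ht ↦ hker (by
    rw [RingHom.mem_ker]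
    exact (congr($(i.naturality (homOfLE hle).op) t)).trans
      ((congrArg (Z.presheaf.map _).hom ht).trans (map_zero _)))
  have hsq : RingHom.ker (j.app O).hom * RingHom.ker (j.app O).hom = ⊥ := by
    rw [← le_bot_iff, Ideal.mul_le]
    exact fun a ha b hb ↦ mul_eq_zero_of_app hj ha hb
  have := Ideal.mul_mem_mul (key x hx) (key y hy)
  rw [← Ideal.map_mul, hsq, Ideal.map_bot, Ideal.mem_bot] at this
  rw [map_zero, map_mul]
  exact this

/-- A first order thickening factoring through a closed immersion. -/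
theorem fot_of_comp {P : Scheme.{u}} (l : Z ⟶ P) (s : P ⟶ Z') [IsClosedImmersion s]
    (hi : IsFirstOrderThickening (l ≫ s)) : IsFirstOrderThickening l := by
  have := isClosedImmersion_of_fot hi
  have : IsClosedImmersion l := IsClosedImmersion.of_comp l s
  have : Surjective l := ⟨fun q ↦ by
    obtain ⟨t, ht⟩ := exists_point hi (s q)
    rw [Scheme.Hom.comp_apply] at ht
    exact ⟨t, (Scheme.Hom.isEmbedding s).injective ht⟩⟩
  refine fot_of_forall l fun A _ x y hx hy ↦ P.IsSheaf.section_ext fun q hq ↦ ?_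
  obtain ⟨O, hO, hOA⟩ := (Scheme.Hom.isEmbedding s).isInducing.isOpen_iff.mp A.2
  obtain ⟨_, ⟨B, hB, rfl⟩, hqB, hBle⟩ := Z'.isBasis_affineOpens.exists_subset_of_mem_open
    (show s q ∈ O from (Set.ext_iff.mp hOA q).mpr hq) hO
  have hle : s ⁻¹ᵁ B ≤ A := fun w hw ↦ (Set.ext_iff.mp hOA w).mp (hBle hw)
  refine ⟨s ⁻¹ᵁ B, hle, hqB, ?_⟩
  obtain ⟨x₀, hx₀⟩ := s.app_surjective B hB (P.presheaf.map (homOfLE hle).op x)
  obtain ⟨y₀, hy₀⟩ := s.app_surjective B hB (P.presheaf.map (homOfLE hle).op y)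
  have key : ∀ (t : Γ(P, A)) (t₀ : Γ(Z', B)), l.app A t = 0 →
      s.app B t₀ = P.presheaf.map (homOfLE hle).op t → (l ≫ s).app B t₀ = 0 := by
    intro t t₀ ht ht₀
    change l.app (s ⁻¹ᵁ B) (s.app B t₀) = 0
    rw [ht₀]
    exact (congr($(l.naturality (homOfLE hle).op) t)).trans
      ((congrArg (Z.presheaf.map _).hom ht).trans (map_zero _))
  have h0 := mul_eq_zero_of_app hi (key x x₀ hx hx₀) (key y y₀ hy hy₀)
  rw [map_zero, map_mul, ← hx₀, ← hy₀, ← map_mul, h0, map_zero]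

end Groth.OmegaSheaf.UnivThick
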