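import Groth.Agent.OmegaSheaf.UnivThick.Local
import Mathlib.RingTheory.Spectrum.Prime.Topology

/-!
# Universal first order thickenings of affine schemes
-/

universe u

open CategoryTheory Limits AlgebraicGeometry Opposite TopologicalSpace

namespace Groth.OmegaSheaf.UnivThick

open MoreMor (IsFirstOrderThickening)

/-- The ring map of a morphism to an affine scheme. -/
noncomputable def toRing {T : Scheme.{u}} {C : CommRingCat.{u}} (f : T ⟶ Spec C) : C ⟶ Γ(T, ⊤) :=
  (Scheme.ΓSpecIso C).inv ≫ f.appTop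

lemma toRing_injective {T : Scheme.{u}} {C : CommRingCat.{u}} {f g : T ⟶ Spec C}
    (h : toRing f = toRing g) : f = g :=
  ext_of_isAffine ((cancel_epi (Scheme.ΓSpecIso C).inv).mp h)

lemma toRing_surjective (T : Scheme.{u}) {C : CommRingCat.{u}} (γ : C ⟶ Γ(T, ⊤)) :
    ∃ f : T ⟶ Spec C, toRing f = γ :=
  ⟨T.toSpecΓ ≫ Spec.map γ, by simp [toRing]⟩

lemma toRing_comp {T T' : Scheme.{u}} {C : CommRingCat.{u}} (k : T ⟶ T') (f : T' ⟶ Spec C) :
    toRing (k ≫ f) = toRing f ≫ k.appTop := by
  simp [toRing]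

lemma toRing_map {T : Scheme.{u}} {C D : CommRingCat.{u}} (u : C ⟶ D) (f : T ⟶ Spec D) :
    toRing (f ≫ Spec.map u) = u ≫ toRing f := by
  simp [toRing, Scheme.ΓSpecIso_inv_naturality_assoc]

/-- The spectrum of a surjection with square-zero kernel is a first order thickening. -/
lemma fot_Spec {A B : CommRingCat.{u}} (p : A ⟶ B) (hs : Function.Surjective p)
    (hk : RingHom.ker p.hom ^ 2 = ⊥) : IsFirstOrderThickening (Spec.map p) := by
  have : IsClosedImmersion (Spec.map p) := IsClosedImmersion.spec_of_surjective p hs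
  refine ⟨⟨inferInstance, ⟨fun x ↦ ?_⟩⟩, ?_⟩
  · have : x ∈ Set.range (PrimeSpectrum.comap p.hom) := by
      rw [range_comap_of_surjective _ _ hs]
      change (RingHom.ker p.hom : Set A) ⊆ (x : PrimeSpectrum A).asIdeal
      exact fun y hy ↦ x.isPrime.mem_of_pow_mem 2 (by
        rw [show y ^ 2 = 0 by rw [← Ideal.mem_bot, ← hk]; exact Ideal.pow_mem_pow hy 2]
        exact zero_mem _)
    exact this
  · refine Scheme.IdealSheafData.ext_of_isAffine ?_
    rw [Scheme.IdealSheafData.ideal_mul, Pi.mul_apply, Scheme.IdealSheafData.ideal_bot, Pi.bot_apply,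
      Scheme.Hom.ker_apply, ← le_bot_iff, Ideal.mul_le]
    intro x hx y hy
    have key : ∀ z : Γ(Spec A, ⊤), (Spec.map p).appTop z = 0 →
        (Scheme.ΓSpecIso A).hom z ∈ RingHom.ker p.hom := fun z hz ↦ by
      have := congr($(Scheme.ΓSpecIso_naturality p) z)
      change (Scheme.ΓSpecIso B).hom ((Spec.map p).appTop z) = p ((Scheme.ΓSpecIso A).hom z) at this
      rw [hz, map_zero] at this
      exact this.symm
    have := Ideal.mul_mem_mul (key x hx) (key y hy)
    rw [← pow_two, hk, Ideal.mem_bot, ← map_mul] at this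
    exact (map_eq_zero_iff _ (ConcreteCategory.bijective_of_isIso (Scheme.ΓSpecIso A).hom).1).mp this

/-- The kernel on global sections of a first order thickening of an affine scheme has square zero. -/
lemma ker_appTop_sq {T T' : Scheme.{u}} {k : T ⟶ T'} (hk : IsFirstOrderThickening k) :
    RingHom.ker k.appTop.hom ^ 2 = ⊥ := by
  rw [pow_two, ← le_bot_iff, Ideal.mul_le]
  exact fun x hx y hy ↦ mul_eq_zero_of_app hk hx hy

/-- The universal property of a ring level thickening, for arbitrary square-zero surjections. -/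
lemma ring_univ {R S S' : Type u} [CommRing R] [CommRing S] [CommRing S'] [Algebra R S]
    [Algebra R S'] {π : S' →ₐ[R] S} (hπ : OmegaSh.IsUnivThickeningRing R S S' π)
    {A B : CommRingCat.{u}} (p : A ⟶ B) (hs : Function.Surjective p)
    (hk : RingHom.ker p.hom ^ 2 = ⊥) (α : CommRingCat.of S ⟶ B) (β : CommRingCat.of R ⟶ A)
    (w : CommRingCat.ofHom (algebraMap R S) ≫ α = β ≫ p) :
    ∃! γ : CommRingCat.of S' ⟶ A, CommRingCat.ofHom π.toRingHom ≫ α = γ ≫ p ∧
      CommRingCat.ofHom (algebraMap R S') ≫ γ = β := by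
  let _ : Algebra R A := β.hom.toAlgebra
  let e : A ⧸ RingHom.ker p.hom ≃+* B := RingHom.quotientKerEquivOfSurjective hs
  have he : ∀ y, e (Ideal.Quotient.mk _ y) = p y := fun y ↦ rfl
  let a : S →ₐ[R] A ⧸ RingHom.ker p.hom :=
    { toRingHom := e.symm.toRingHom.comp α.hom
      commutes' := fun r ↦ e.injective (by
        change e (e.symm (α (algebraMap R S r))) = e (Ideal.Quotient.mk _ (β r))
        rw [RingEquiv.apply_symm_apply, he]
        exact congr($w r)) }
  obtain ⟨γ, hγ, hγu⟩ := hπ.2.2 A (RingHom.ker p.hom) hk a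
  refine ⟨CommRingCat.ofHom γ.toRingHom, ⟨?_, ?_⟩, fun δ ⟨hδ₁, hδ₂⟩ ↦ ?_⟩
  · ext x
    change α (π x) = p (γ x)
    have := DFunLike.congr_fun hγ x
    change Ideal.Quotient.mk _ (γ x) = e.symm (α (π x)) at this
    rw [← he, this, RingEquiv.apply_symm_apply]
  · ext r
    exact γ.commutes r
  · let δ' : S' →ₐ[R] A := { toRingHom := δ.hom, commutes' := fun r ↦ congr($hδ₂ r) }
    have hδ' : (Ideal.Quotient.mkₐ R _).comp δ' = a.comp π := by
      refine AlgHom.ext fun x ↦ e.injective ?_
      change e (Ideal.Quotient.mk _ (δ x)) = e (e.symm (α (π x)))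
      rw [RingEquiv.apply_symm_apply, he]
      exact congr($hδ₁ x).symm
    ext x
    exact DFunLike.congr_fun (hγu δ' hδ') x

/-- Spectra of ring level universal thickenings are universal. -/
theorem isUniv_Spec {R S S' : Type u} [CommRing R] [CommRing S] [CommRing S'] [Algebra R S]
    [Algebra R S'] (π : S' →ₐ[R] S) (hπ : OmegaSh.IsUnivThickeningRing R S S' π) {X : Scheme.{u}}
    (o : Spec (CommRingCat.of R) ⟶ X) [IsOpenImmersion o] :
    OmegaSh.IsUnivThickening (Spec.map (CommRingCat.ofHom (algebraMap R S)) ≫ o)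
      (Spec.map (CommRingCat.ofHom π.toRingHom))
      (Spec.map (CommRingCat.ofHom (algebraMap R S')) ≫ o) := by
  have hcomp : CommRingCat.ofHom (algebraMap R S') ≫ CommRingCat.ofHom π.toRingHom =
      CommRingCat.ofHom (algebraMap R S) := by
    ext r; exact π.commutes r
  refine isUniv_of_affine_tests (fot_Spec _ hπ.1 hπ.2.1) ?_ fun T T' k b a hT hk hw ↦ ?_
  · rw [← Category.assoc, ← Spec.map_comp, hcomp]
  have := isClosedImmersion_of_fot hk
  have hr : Set.range b ⊆ Set.range o := by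
    rintro _ ⟨p, rfl⟩
    obtain ⟨t, rfl⟩ := exists_point hk p
    exact ⟨Spec.map (CommRingCat.ofHom (algebraMap R S)) (a t), by
      rw [← Scheme.Hom.comp_apply, ← Scheme.Hom.comp_apply, ← Scheme.Hom.comp_apply, hw]⟩
  let b₀ := IsOpenImmersion.lift o b hr
  have hw₀ : a ≫ Spec.map (CommRingCat.ofHom (algebraMap R S)) = k ≫ b₀ := by
    rw [← cancel_mono o, Category.assoc, Category.assoc, IsOpenImmersion.lift_fac, hw]
  obtain ⟨γ, ⟨hγ₁, hγ₂⟩, hγu⟩ := ring_univ hπ k.appTop
    (Scheme.Hom.app_surjective k ⊤ (isAffineOpen_top T')) (ker_appTop_sq hk)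
    (toRing a) (toRing b₀) (by rw [← toRing_map, ← toRing_comp, hw₀])
  obtain ⟨a', ha'⟩ := toRing_surjective T' γ
  refine ⟨a', ⟨toRing_injective ?_, ?_⟩, fun c hc ↦ toRing_injective ?_⟩
  · rw [toRing_comp, toRing_map, ha', hγ₁]
  · rw [← Category.assoc]
    have : a' ≫ Spec.map (CommRingCat.ofHom (algebraMap R S')) = b₀ :=
      toRing_injective (by rw [toRing_map, ha', hγ₂])
    rw [this, IsOpenImmersion.lift_fac]
  · rw [ha']
    refine hγu _ ⟨?_, ?_⟩
    · rw [← toRing_map, ← hc.1, toRing_comp]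
    · have : c ≫ Spec.map (CommRingCat.ofHom (algebraMap R S')) = b₀ := by
        rw [← cancel_mono o, Category.assoc, IsOpenImmersion.lift_fac]; exact hc.2
      rw [← toRing_map, this]

end Groth.OmegaSheaf.UnivThick
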