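import Groth.Agent.OmegaSheaf.UnivThick.Trans
import Groth.Agent.OmegaSheaf.UnivThick.Affine
import Groth.Agent.OmegaSheaf.KoszulInf
import Groth.Agent.KoszulLCI.Immersion
import Mathlib.RingTheory.MvPolynomial.Ideal

/-!
# Left exactness of the transitivity sequence for a local complete intersection
-/

universe u

open CategoryTheory Limits AlgebraicGeometry Opposite TopologicalSpace TensorProduct

namespace Groth.OmegaSheaf.UnivThick

open Groth.OmegaSheaf
open Groth.QCohMod (res res_res res_smul res_app res_self sectionsAlg)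

variable {Z Y X Z' Y' : Scheme.{u}} {i : Z ⟶ Y} {b : Y ⟶ X} {i' : Z ⟶ Z'} {c : Z' ⟶ X}
  {j : Y ⟶ Y'} {d : Y' ⟶ X} {m : Z' ⟶ Y'}

/-- The test thickening `Spec (P / J²)` maps to the universal one. -/
lemma exists_test_lift (hZ : OmegaSh.IsUnivThickening (i ≫ b) i' c)
    (hY : OmegaSh.IsUnivThickening b j d) (hm₁ : i' ≫ m = i ≫ j) (hm₂ : m ≫ d = c)
    {W : Y'.Opens} (hW : IsAffineOpen W) {W' : Z'.Opens} (hW' : IsAffineOpen W')
    (e : W' ≤ m ⁻¹ᵁ W) (hU : IsAffineOpen (i' ⁻¹ᵁ W')) {A : CommRingCat.{u}}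
    (p : A ⟶ Γ(Z, i' ⁻¹ᵁ W')) (hs : Function.Surjective p) (hk : RingHom.ker p.hom ^ 2 = ⊥)
    (β : Γ(Y', W) ⟶ A) (hβ : β ≫ p = m.appLE W W' e ≫ i'.app W') :
    ∃ α : Γ(Z', W') ⟶ A, α ≫ p = i'.app W' ∧ m.appLE W W' e ≫ α = β := by
  have hfot := fot_Spec p hs hk
  have eU : i' ⁻¹ᵁ W' ≤ (i ≫ j) ⁻¹ᵁ W := by
    rw [← hm₁, Scheme.Hom.comp_preimage]
    exact i'.preimage_mono e
  have hcomp : β ≫ p = (i ≫ j).appLE W (i' ⁻¹ᵁ W') eU := by
    have key : ∀ (q : Z ⟶ Y') (hq : i' ≫ m = q) (h : i' ⁻¹ᵁ W' ≤ q ⁻¹ᵁ W),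
        m.appLE W W' e ≫ i'.app W' = q.appLE W (i' ⁻¹ᵁ W') h := by
      rintro q rfl h
      rw [Scheme.Hom.app_eq_appLE, Scheme.Hom.appLE_comp_appLE]
    rw [hβ, key _ hm₁ eU]
  let s := Spec.map β ≫ hW.fromSpec
  have hks : Spec.map p ≫ s = hU.fromSpec ≫ i ≫ j := by
    rw [← Category.assoc, ← Spec.map_comp, hcomp, hW.SpecMap_appLE_fromSpec (i ≫ j) hU eU]
  obtain ⟨a', ⟨ha₁, ha₂⟩, -⟩ := hZ.2.2 _ _ (Spec.map p) (s ≫ d) hU.fromSpec hfot (by
    rw [reassoc_of% hks, hY.2.1])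
  have ham : a' ≫ m = s := by
    refine (hY.2.2 _ _ (Spec.map p) (s ≫ d) (hU.fromSpec ≫ i) hfot ?_).unique ⟨?_, ?_⟩ ⟨?_, rfl⟩
    · rw [reassoc_of% hks, hY.2.1, Category.assoc]
    · rw [reassoc_of% ha₁, hm₁, Category.assoc]
    · rw [Category.assoc, hm₂, ha₂]
    · rw [hks, Category.assoc]
  have hr : Set.range a' ⊆ Set.range hW'.fromSpec := by
    rintro _ ⟨q, rfl⟩
    obtain ⟨t, rfl⟩ := exists_point hfot q
    rw [hW'.range_fromSpec, ← Scheme.Hom.comp_apply, ha₁, Scheme.Hom.comp_apply]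
    have : hU.fromSpec t ∈ Set.range hU.fromSpec := ⟨t, rfl⟩
    rwa [hU.range_fromSpec] at this
  obtain ⟨α, hα⟩ := Spec.map_surjective (IsOpenImmersion.lift hW'.fromSpec a' hr)
  have hα' : Spec.map α ≫ hW'.fromSpec = a' := by rw [hα, IsOpenImmersion.lift_fac]
  refine ⟨α, Spec.map_injective ?_, Spec.map_injective ?_⟩
  · rw [← cancel_mono hW'.fromSpec, Spec.map_comp, Category.assoc, hα', ha₁,
      Scheme.Hom.app_eq_appLE, hW'.SpecMap_appLE_fromSpec i' hU]
  · rw [← cancel_mono hW.fromSpec, Spec.map_comp, Category.assoc,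
      hW.SpecMap_appLE_fromSpec m hW' e, reassoc_of% hα', ham]

/-- For `i` a local complete intersection, `i^*C_{Y/Y'} ⟶ C_{Z/Z'}` is a monomorphism. -/
theorem transMap_mono [QuasiCompact i'] [QuasiCompact j] [IsImmersion i'] [IsImmersion j]
    (hZ : OmegaSh.IsUnivThickening (i ≫ b) i' c)
    (hY : OmegaSh.IsUnivThickening b j d) (hm₁ : i' ≫ m = i ≫ j) (hm₂ : m ≫ d = c)
    (hlci : ∀ z : Z, Synt.IsKoszulAt i z)
    {ψ : (Scheme.Modules.pullback i).obj (Omega.conormal j) ⟶ Omega.conormal i'}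
    (hψ : OmegaSh.IsConormalMap i' j m i ψ) : Mono ψ := by
  have := isClosedImmersion_of_fot hZ.1
  have := isClosedImmersion_of_fot hY.1
  refine mono_of_affine_cover ψ fun z ↦ ?_
  obtain ⟨_, ⟨W, hW, rfl⟩, hzW, -⟩ := Y'.isBasis_affineOpens.exists_subset_of_mem_open
    (Set.mem_univ (m (i' z))) isOpen_univ
  obtain ⟨_, ⟨W', hW', rfl⟩, hzW', hle⟩ := Z'.isBasis_affineOpens.exists_subset_of_mem_open
    (show i' z ∈ m ⁻¹ᵁ W from hzW) (m ⁻¹ᵁ W).2
  have e : W' ≤ m ⁻¹ᵁ W := hle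
  have hU := hW'.preimage i'
  have hjW : IsConormalChart j W := ⟨hW, hW.preimage j, j.app_surjective W hW⟩
  have hiW : IsConormalChart i' W' := ⟨hW', hU, i'.app_surjective W' hW'⟩
  refine ⟨i' ⁻¹ᵁ W', hU, hzW', (injective_iff_map_eq_zero _).mpr fun y hy ↦ ?_⟩
  have eT : i' ⁻¹ᵁ W' ≤ i ⁻¹ᵁ (j ⁻¹ᵁ W) := by
    rw [← Scheme.Hom.comp_preimage, ← hm₁]
    exact i'.preimage_mono e
  let _ := (i.appLE (j ⁻¹ᵁ W) (i' ⁻¹ᵁ W') eT).hom.toAlgebra
  obtain ⟨-, n, φ, hφs, hK⟩ := (Groth.KoszulLCI.morLCI_iff i).mp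
    (Groth.KoszulLCI.morLCI_of_isKoszulAt i hlci) (i' ⁻¹ᵁ W') (j ⁻¹ᵁ W) hU hjW.affine_preimage eT
  let P := MvPolynomial (Fin n) Γ(Y', W)
  let π : P →+* MvPolynomial (Fin n) Γ(Y, j ⁻¹ᵁ W) := MvPolynomial.map (j.app W).hom
  have hπ : Function.Surjective π := MvPolynomial.map_surjective _ hjW.surjective
  let ρ : P →+* Γ(Z, i' ⁻¹ᵁ W') := φ.toRingHom.comp π
  have hρ : Function.Surjective ρ := hφs.comp hπ
  let J : Ideal P := RingHom.ker ρ
  let p : CommRingCat.of (P ⧸ J ^ 2) ⟶ Γ(Z, i' ⁻¹ᵁ W') :=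
    CommRingCat.ofHom (Ideal.Quotient.lift (J ^ 2) ρ fun x hx ↦ Ideal.pow_le_self two_ne_zero hx)
  have hps : Function.Surjective p := fun x ↦ by
    obtain ⟨q, rfl⟩ := hρ x
    exact ⟨Ideal.Quotient.mk _ q, rfl⟩
  have hpk : RingHom.ker p.hom = J.map (Ideal.Quotient.mk (J ^ 2)) := Ideal.ker_quotient_lift _ _
  have hpk2 : RingHom.ker p.hom ^ 2 = ⊥ := by
    rw [hpk, ← Ideal.map_pow, Ideal.map_quotient_self]
  let β : Γ(Y', W) ⟶ CommRingCat.of (P ⧸ J ^ 2) :=
    CommRingCat.ofHom ((Ideal.Quotient.mk (J ^ 2)).comp MvPolynomial.C)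
  have hCρ : ∀ a, ρ (MvPolynomial.C a) = i'.app W' (m.appLE W W' e a) := by
    intro a
    change φ (π (MvPolynomial.C a)) = _
    rw [show π (MvPolynomial.C a) = MvPolynomial.C (j.app W a) from MvPolynomial.map_C _ a,
      show φ (MvPolynomial.C (j.app W a)) = i.appLE (j ⁻¹ᵁ W) (i' ⁻¹ᵁ W') eT (j.app W a) from
        φ.commutes _]
    have key : ∀ (q : Z ⟶ Y') (hq : i' ≫ m = q) (h : i' ⁻¹ᵁ W' ≤ q ⁻¹ᵁ W),
        q.appLE W (i' ⁻¹ᵁ W') h a = i'.app W' (m.appLE W W' e a) := by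
      rintro q rfl h
      rw [← CommRingCat.comp_apply, Scheme.Hom.app_eq_appLE, Scheme.Hom.appLE_comp_appLE]
    refine Eq.trans ?_ (key (i ≫ j) hm₁ eT)
    rw [← CommRingCat.comp_apply, Scheme.Hom.app_eq_appLE, Scheme.Hom.appLE_comp_appLE]
  obtain ⟨α, hα₁, hα₂⟩ := exists_test_lift hZ hY hm₁ hm₂ hW hW' e hU p hps hpk2 β (by
    ext a
    exact hCρ a)
  choose l hl using fun k : Fin n ↦ hiW.surjective (ρ (MvPolynomial.X k))
  let ε : P →+* Γ(Z', W') := MvPolynomial.eval₂Hom (m.appLE W W' e).hom l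
  have hεC : ∀ a, ε (MvPolynomial.C a) = m.appLE W W' e a := MvPolynomial.eval₂Hom_C _ _
  have hε : ∀ x, i'.app W' (ε x) = ρ x := by
    intro x
    exact congr($(show ((i'.app W').hom.comp ε) = ρ from MvPolynomial.ringHom_ext
      (fun a ↦ by rw [RingHom.comp_apply, hεC]; exact (hCρ a).symm)
      (fun k ↦ by rw [RingHom.comp_apply, MvPolynomial.eval₂Hom_X']; exact hl k)) x)
  let N := RingHom.ker (j.app W).hom
  have hker : RingHom.ker π = N.map MvPolynomial.C := MvPolynomial.ker_map _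
  have hNJ : RingHom.ker π ≤ J := fun x hx ↦ by
    change φ (π x) = 0
    rw [show π x = 0 from hx, map_zero]
  have hαN : ∀ x ∈ RingHom.ker π, α (ε x) = Ideal.Quotient.mk (J ^ 2) x := by
    intro x hx
    rw [hker] at hx
    suffices x ∈ J ∧ α (ε x) = Ideal.Quotient.mk (J ^ 2) x from this.2
    induction hx using Submodule.span_induction with
    | zero => exact ⟨zero_mem _, by rw [map_zero, map_zero, map_zero]⟩
    | add a b _ _ ha hb =>
      exact ⟨add_mem ha.1 hb.1, by rw [map_add, map_add, map_add, ha.2, hb.2]⟩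
    | mem x hx =>
      obtain ⟨a, ha, rfl⟩ := hx
      refine ⟨hNJ (hker ▸ Ideal.mem_map_of_mem _ ha), ?_⟩
      rw [hεC, ← CommRingCat.comp_apply, hα₂]
      rfl
    | smul t x _ hx =>
      refine ⟨Ideal.mul_mem_left _ _ hx.1, ?_⟩
      rw [smul_eq_mul, map_mul, map_mul, map_mul, hx.2, ← sub_eq_zero, ← sub_mul]
      have h1 : α (ε t) - Ideal.Quotient.mk (J ^ 2) t ∈ RingHom.ker p.hom := by
        rw [RingHom.mem_ker, map_sub, sub_eq_zero]
        change (α ≫ p) (ε t) = ρ t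
        rw [hα₁, hε]
      have h2 : Ideal.Quotient.mk (J ^ 2) x ∈ RingHom.ker p.hom := by
        rw [hpk]; exact Ideal.mem_map_of_mem _ hx.1
      have hsq : RingHom.ker p.hom * RingHom.ker p.hom ≤ ⊥ := le_of_eq ((pow_two _).symm.trans hpk2)
      exact Ideal.mem_bot.mp (hsq (Ideal.mul_mem_mul h1 h2))
  let Pm := (Scheme.Modules.pullback i).obj (Omega.conormal j)
  let E := idealSecEquiv j.ker ⟨W, hW⟩
  have hN : j.ker.ideal ⟨W, hW⟩ = N := ker_ideal_eq (i := j) hW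
  let _ : Module P Γ(Pm, i' ⁻¹ᵁ W') := Module.compHom _ ρ
  let _ : Module Γ(Y', W) Γ(Pm, i' ⁻¹ᵁ W') := Module.compHom _ (ρ.comp MvPolynomial.C)
  have : IsScalarTower Γ(Y', W) P Γ(Pm, i' ⁻¹ᵁ W') :=
    IsScalarTower.of_algebraMap_smul fun _ _ ↦ rfl
  let f0 : N →ₗ[Γ(Y', W)] Γ(Pm, i' ⁻¹ᵁ W') :=
    { toFun := fun s ↦ res Pm eT (OmegaSh.pullSect i (Omega.conormal j) (j ⁻¹ᵁ W)
        (OmegaSh.conormalSect j W (E.symm ⟨s.1, hN.symm ▸ s.2⟩)))
      map_add' := fun a b ↦ by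
        rw [← map_add, ← map_add, ← map_add, ← map_add]
        rfl
      map_smul' := fun r a ↦ by
        change _ = ρ (MvPolynomial.C r) • res Pm eT _
        have hscal : ρ (MvPolynomial.C r) =
            Z.presheaf.map (homOfLE eT).op (i.app (j ⁻¹ᵁ W) (j.app W r)) := by
          rw [show ρ (MvPolynomial.C r) = φ (MvPolynomial.C (j.app W r)) from
            congrArg φ (MvPolynomial.map_C _ r)]
          exact φ.commutes _
        rw [hscal, ← res_smul]
        congr 1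
        refine Eq.trans ?_ (Groth.PicAux.pullSec_smul i (Omega.conormal j) _ _)
        refine congrArg (OmegaSh.pullSect i (Omega.conormal j) (j ⁻¹ᵁ W)) ?_
        rw [← conormalSect_smul, ← map_smul]
        rfl }
  let F : P ⊗[Γ(Y', W)] N →ₗ[P] Γ(Pm, i' ⁻¹ᵁ W') := LinearMap.liftBaseChange _ f0
  let μ : P ⊗[Γ(Y', W)] N →ₗ[P] P :=
    LinearMap.liftBaseChange _ ((Algebra.linearMap Γ(Y', W) P).comp N.subtype)
  have hFs : Function.Surjective F := fun y ↦ by
    let _ := sectionsAlg i eT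
    obtain ⟨z, rfl⟩ := (Groth.QCohMod.pullSecTensor_bijective i (Omega.conormal j) eT
      hjW.affine_preimage hU).2 y
    induction z using TensorProduct.induction_on with
    | zero => exact ⟨0, by rw [map_zero, map_zero]⟩
    | add a b ha hb =>
      obtain ⟨x, hx⟩ := ha; obtain ⟨x', hx'⟩ := hb
      exact ⟨x + x', by rw [map_add, map_add, hx, hx']⟩
    | tmul b c =>
      obtain ⟨a, rfl⟩ := hρ b
      obtain ⟨k, rfl⟩ := hjW.conormalSect_surjective c
      refine ⟨a ⊗ₜ ⟨(E k).1, hN ▸ (E k).2⟩, ?_⟩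
      rw [LinearMap.liftBaseChange_tmul, Groth.QCohMod.pullSecTensor_tmul]
      change ρ a • res Pm eT (OmegaSh.pullSect i _ _
        (OmegaSh.conormalSect j W (E.symm _))) = _
      rw [show (⟨(E k).1, _⟩ : j.ker.ideal ⟨W, hW⟩) = E k from rfl, E.symm_apply_apply]
      rfl
  have hμker : ∀ x, μ x ∈ RingHom.ker π := by
    intro x
    induction x using TensorProduct.induction_on with
    | zero => rw [map_zero]; exact zero_mem _
    | add a b ha hb => rw [map_add]; exact add_mem ha hb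
    | tmul a s =>
      rw [LinearMap.liftBaseChange_tmul, smul_eq_mul]
      exact Ideal.mul_mem_left _ _ (hker ▸ Ideal.mem_map_of_mem _ s.2)
  have hεker : ∀ x, ε (μ x) ∈ i'.ker.ideal ⟨W', hW'⟩ := fun x ↦ by
    rw [ker_ideal_eq (i := i') hW', RingHom.mem_ker, hε]
    exact hNJ (hμker x)
  have hψF : ∀ x (k : Γ(ClSub.idealMod i'.ker, W')), OmegaSh.idealSect i'.ker W' k = ε (μ x) →
      ψ.app (i' ⁻¹ᵁ W') (F x) = OmegaSh.conormalSect i' W' k := by
    intro x
    induction x using TensorProduct.induction_on with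
    | zero =>
      intro k hk
      rw [map_zero, map_zero, idealSect_injective _ _ (hk.trans (show ε (μ 0) =
        OmegaSh.idealSect i'.ker W' 0 by rw [map_zero, map_zero, map_zero])), map_zero]
    | add a b ha hb =>
      intro k hk
      obtain ⟨ka, hka⟩ := exists_idealSect i'.ker ⟨W', hW'⟩ (hεker a)
      obtain ⟨kb, hkb⟩ := exists_idealSect i'.ker ⟨W', hW'⟩ (hεker b)
      rw [show k = ka + kb from idealSect_injective _ _
        (by rw [hk, map_add, map_add, map_add, hka, hkb]), map_add, map_add, map_add, ha ka hka,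
          hb kb hkb]
    | tmul a s =>
      intro k hk
      let s' := E.symm ⟨s.1, hN.symm ▸ s.2⟩
      have hs' : OmegaSh.idealSect j.ker W s' = s.1 :=
        (idealSecEquiv_apply j.ker ⟨W, hW⟩ s').symm.trans
          congr(($(E.apply_symm_apply ⟨s.1, hN.symm ▸ s.2⟩)).1)
      obtain ⟨t, ht⟩ : ∃ t, OmegaSh.idealSect i'.ker (m ⁻¹ᵁ W) t =
          m.app W (OmegaSh.idealSect j.ker W s') := by
        refine exists_idealSect_of_app_eq_zero i' ?_
        have key : ∀ q : Z ⟶ Y', q = i ≫ j → q.app W (OmegaSh.idealSect j.ker W s') = 0 := by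
          rintro q rfl
          change i.app _ (j.app W _) = 0
          exact (congrArg _ (app_idealSect j W s')).trans (map_zero _)
        exact key (i' ≫ m) hm₁
      have hk' : k = ε a • res _ e t := by
        refine idealSect_injective _ _ ?_
        rw [hk, idealSect_smul, LinearMap.liftBaseChange_tmul, smul_eq_mul, map_mul]
        congr 1
        change ε (MvPolynomial.C s.1) =
          OmegaSh.idealSect i'.ker W' ((ClSub.idealMod i'.ker).presheaf.map _ t)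
        rw [idealSect_res, ht, hs', hεC]
        rfl
      rw [hk', conormalSect_smul, hε, ← res_conormalSect i' e, LinearMap.liftBaseChange_tmul]
      change ψ.app _ (ρ a • f0 s) = _
      rw [Scheme.Modules.Hom.app_smul]
      congr 1
      change ψ.app _ (res Pm eT _) = _
      rw [← res_app]
      exact hψ.2 W s' t ht _ eT (i'.preimage_mono e)
  obtain ⟨x, rfl⟩ := hFs y
  obtain ⟨k, hk⟩ := exists_idealSect i'.ker ⟨W', hW'⟩ (hεker x)
  rw [hψF x k hk, hiW.conormalSect_eq_zero_iff, hk] at hy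
  have hsq : RingHom.ker (i'.app W').hom ^ 2 = ⊥ := by
    rw [pow_two, ← le_bot_iff, Ideal.mul_le]
    exact fun a ha b hb ↦ mul_eq_zero_of_app hZ.1 ha hb
  rw [hsq, Ideal.mem_bot] at hy
  have hμJ : μ x ∈ J ^ 2 := by
    rw [← Ideal.Quotient.eq_zero_iff_mem, ← hαN _ (hμker x), hy, map_zero]
  have hJ : J = (RingHom.ker φ.toRingHom).comap π := by
    rw [RingHom.comap_ker]
  have hmem := ker_inf_sq_le_of_koszul π hπ hK ⟨hμker x, hJ ▸ hμJ⟩
  rw [← hJ] at hmem
  have hrange : RingHom.ker π ≤ LinearMap.range μ := by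
    rw [hker, Ideal.map_le_iff_le_comap]
    intro s hs
    exact ⟨1 ⊗ₜ ⟨s, hs⟩, by rw [LinearMap.liftBaseChange_tmul, one_smul]; rfl⟩
  have hmul : ∀ v ∈ J * RingHom.ker π, ∃ w, μ w = v ∧ F w = 0 := by
    intro v hv
    induction hv using Submodule.mul_induction_on' with
    | mem_mul_mem r hr s hs =>
      obtain ⟨w, hw⟩ := hrange hs
      refine ⟨r • w, by rw [map_smul, hw, smul_eq_mul], ?_⟩
      rw [map_smul]
      change ρ r • F w = 0
      rw [show ρ r = 0 from hr, zero_smul]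
    | add a _ b _ ha hb =>
      obtain ⟨w, hw, hw'⟩ := ha; obtain ⟨v, hv, hv'⟩ := hb
      exact ⟨w + v, by rw [map_add, hw, hv], by rw [map_add, hw', hv', add_zero]⟩
  obtain ⟨w, hw, hw'⟩ := hmul _ hmem
  have hμi : Function.Injective μ := by
    have hinj := Module.Flat.lTensor_preserves_injective_linearMap (M := P) N.subtype
      Subtype.val_injective
    have : (μ : _ → P) = (TensorProduct.rid Γ(Y', W) P) ∘ (N.subtype.lTensor P) := by
      funext v
      induction v using TensorProduct.induction_on with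
      | zero => simp
      | add p q hp hq => simp only [Function.comp_apply, map_add] at hp hq ⊢; rw [hp, hq]
      | tmul p q =>
        rw [Function.comp_apply, LinearMap.liftBaseChange_tmul, LinearMap.lTensor_tmul,
          TensorProduct.rid_tmul, smul_eq_mul, Algebra.smul_def, mul_comm]
        rfl
    rw [this]
    exact (LinearEquiv.injective _).comp hinj
  rw [← hμi hw, hw']

end Groth.OmegaSheaf.UnivThick
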