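import Groth.Prelude.Def_MoreMor
import Groth.Prelude.Def_Omega3
import Groth.Agent.FlatMor2.AffineThickening

/-!
# First order thickenings and universal first order thickenings: basic properties
-/

universe u

open CategoryTheory Limits AlgebraicGeometry Opposite TopologicalSpace

namespace Groth.OmegaSheaf.UnivThick

open MoreMor (IsFirstOrderThickening)

variable {T T' : Scheme.{u}} {j : T ⟶ T'}

lemma isClosedImmersion_of_fot (hj : IsFirstOrderThickening j) : IsClosedImmersion j := hj.1.1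

lemma surjective_of_fot (hj : IsFirstOrderThickening j) : Surjective j := hj.1.2

/-- Every point of the thickening comes from the thickened scheme. -/
lemma exists_point (hj : IsFirstOrderThickening j) (p : T') : ∃ t, j t = p :=
  (surjective_of_fot hj).surj p

/-- On a first order thickening the functions vanishing on the thickened scheme multiply to zero. -/
lemma mul_eq_zero_of_app (hj : IsFirstOrderThickening j) {W : T'.Opens} {x y : Γ(T', W)}
    (hx : j.app W x = 0) (hy : j.app W y = 0) : x * y = 0 := by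
  have := isClosedImmersion_of_fot hj
  refine Groth.FlatMor2.eq_zero_of_res_affine fun O hO hOa ↦ ?_
  have hk : ∀ z : Γ(T', W), j.app W z = 0 →
      T'.presheaf.map (homOfLE hO).op z ∈ j.ker.ideal ⟨O, hOa⟩ := fun z hz => by
    rw [Scheme.Hom.ker_apply, RingHom.mem_ker]
    exact (congr($(j.naturality (homOfLE hO).op) z)).trans
      ((congrArg (T.presheaf.map _).hom hz).trans (map_zero _))
  have hbot : j.ker.ideal ⟨O, hOa⟩ * j.ker.ideal ⟨O, hOa⟩ = ⊥ := by
    rw [← Pi.mul_apply (f := j.ker.ideal), ← Scheme.IdealSheafData.ideal_mul, hj.2]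
    simp
  have := Ideal.mul_mem_mul (hk x hx) (hk y hy)
  rw [hbot, Ideal.mem_bot] at this
  rw [map_mul]
  exact this

/-- A surjective closed immersion whose kernel has square zero on affine opens is a first order
thickening. -/
lemma fot_of_forall (j : T ⟶ T') [IsClosedImmersion j] [Surjective j]
    (h : ∀ W : T'.Opens, IsAffineOpen W → ∀ x y : Γ(T', W),
      j.app W x = 0 → j.app W y = 0 → x * y = 0) : IsFirstOrderThickening j := by
  refine ⟨⟨inferInstance, inferInstance⟩, ?_⟩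
  refine Scheme.IdealSheafData.ext (funext fun W ↦ ?_)
  rw [Scheme.IdealSheafData.ideal_mul, Pi.mul_apply, Scheme.IdealSheafData.ideal_bot, Pi.bot_apply,
    Scheme.Hom.ker_apply, ← le_bot_iff, Ideal.mul_le]
  exact fun x hx y hy ↦ h W.1 W.2 x y hx hy

lemma morphismRestrict_app_eq_zero_iff (U : T'.Opens) (W : (U : Scheme.{u}).Opens)
    (x : Γ(T', U.ι ''ᵁ W)) : (j ∣_ U).app W x = 0 ↔ j.app (U.ι ''ᵁ W) x = 0 := by
  rw [morphismRestrict_app]
  exact map_eq_zero_iff _ (ConcreteCategory.bijective_of_isIso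
    (T.presheaf.map (eqToHom (image_morphismRestrict_preimage j U W)).op)).1

/-- Restriction of a first order thickening to an open. -/
lemma fot_morphismRestrict (hj : IsFirstOrderThickening j) (U : T'.Opens) :
    IsFirstOrderThickening (j ∣_ U) := by
  have := isClosedImmersion_of_fot hj
  have := surjective_of_fot hj
  have : IsClosedImmersion (j ∣_ U) := IsZariskiLocalAtTarget.restrict ‹_› U
  have : Surjective (j ∣_ U) := IsZariskiLocalAtTarget.restrict ‹_› U
  exact fot_of_forall _ fun W _ x y hx hy ↦ mul_eq_zero_of_app hj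
    ((morphismRestrict_app_eq_zero_iff U W x).mp hx)
    ((morphismRestrict_app_eq_zero_iff U W y).mp hy)

/-- A first order thickening stays one after composing with isomorphisms. -/
lemma fot_of_iso {S S' : Scheme.{u}} (hj : IsFirstOrderThickening j) (j₁ : S ⟶ S')
    (e : S ⟶ T) (e' : S' ⟶ T') [IsIso e] [IsIso e'] (w : j₁ ≫ e' = e ≫ j) :
    IsFirstOrderThickening j₁ := by
  have := isClosedImmersion_of_fot hj
  have := surjective_of_fot hj
  have hj₁ : j₁ = e ≫ j ≫ inv e' := by rw [← Category.assoc, ← w, Category.assoc, IsIso.hom_inv_id,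
    Category.comp_id]
  have : IsClosedImmersion j₁ := by rw [hj₁]; infer_instance
  have : Surjective j₁ := by rw [hj₁]; infer_instance
  refine fot_of_forall _ fun W _ x y hx hy ↦ ?_
  have key : ∀ z : Γ(S', W), j₁.app W z = 0 → j.app ((inv e') ⁻¹ᵁ W) ((inv e').app W z) = 0 := by
    subst hj₁
    intro z hz
    change e.app _ (j.app _ ((inv e').app W z)) = 0 at hz
    exact (map_eq_zero_iff _ (ConcreteCategory.bijective_of_isIso (e.app _)).1).mp hz
  have := mul_eq_zero_of_app hj (key x hx) (key y hy)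
  rw [← map_mul] at this
  exact (map_eq_zero_iff _ (ConcreteCategory.bijective_of_isIso ((inv e').app W)).1).mp this

/-- Restriction along an open with prescribed preimage. -/
lemma fot_resLE (hj : IsFirstOrderThickening j) (U' : T'.Opens) (U : T.Opens) (h : j ⁻¹ᵁ U' = U) :
    IsFirstOrderThickening (j.resLE U' U h.ge) := by
  subst h
  rw [Scheme.Hom.resLE, Scheme.homOfLE_rfl, Category.id_comp]
  exact fot_morphismRestrict hj U'

/-- Base change of a first order thickening along an open immersion. -/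
lemma fot_of_isPullback {P P' : Scheme.{u}} {p : P ⟶ T} {k : P ⟶ P'} {p' : P' ⟶ T'}
    [IsOpenImmersion p'] (sq : IsPullback p k j p') (hj : IsFirstOrderThickening j) :
    IsFirstOrderThickening k := by
  have h2 := (isPullback_morphismRestrict j p'.opensRange)
  let e' := p'.isoOpensRange
  have sq' : IsPullback p (k ≫ e'.hom) j p'.opensRange.ι :=
    sq.of_iso (Iso.refl _) (Iso.refl _) e' (Iso.refl _) (by simp) (by simp) (by simp) (by simp [e'])
  let e := sq'.flip.isoIsPullback _ _ h2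
  exact fot_of_iso (fot_morphismRestrict hj p'.opensRange) k e.hom e'.hom
    (sq'.flip.isoIsPullback_hom_fst _ _ h2).symm

variable {Z Z' X : Scheme.{u}} {h : Z ⟶ X} {i : Z ⟶ Z'} {h' : Z' ⟶ X}

/-- Two lifts of the same map out of a thickening send each point to the same point. -/
lemma preimage_eq {a : T ⟶ Z} {a' : T' ⟶ Z'} (w : j ≫ a' = a ≫ i)
    {V' : Z'.Opens} (t : T) : j t ∈ a' ⁻¹ᵁ V' ↔ t ∈ a ⁻¹ᵁ (i ⁻¹ᵁ V') := by
  change a' (j t) ∈ V' ↔ i (a t) ∈ V'
  rw [← Scheme.Hom.comp_apply, w, Scheme.Hom.comp_apply]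

/-- Universal first order thickenings restrict to opens. -/
theorem isUniv_resLE (hu : OmegaSh.IsUnivThickening h i h') (V : Z.Opens) (U : X.Opens)
    (hVU : V ≤ h ⁻¹ᵁ U) (V' : Z'.Opens) (hV' : i ⁻¹ᵁ V' = V) (hV'U : V' ≤ h' ⁻¹ᵁ U) :
    OmegaSh.IsUnivThickening (h.resLE U V hVU) (i.resLE V' V hV'.ge) (h'.resLE U V' hV'U) := by
  obtain ⟨hi, hih, huniv⟩ := hu
  refine ⟨fot_resLE hi V' V hV', ?_, fun S S' k b a hk w ↦ ?_⟩
  · simp only [← cancel_mono U.ι, Category.assoc, Scheme.Hom.resLE_comp_ι,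
      Scheme.Hom.resLE_comp_ι_assoc, hih]
  obtain ⟨a', ⟨ha₁, ha₂⟩, hau⟩ := huniv S S' k (b ≫ U.ι) (a ≫ V.ι) hk (by
    rw [← Category.assoc, w, Category.assoc, Scheme.Hom.resLE_comp_ι, Category.assoc])
  have hr : Set.range a' ⊆ Set.range V'.ι := by
    rintro _ ⟨p, rfl⟩
    obtain ⟨t, rfl⟩ := exists_point hk p
    rw [Scheme.Opens.range_ι]
    refine (preimage_eq ha₁ (V' := V') t).mpr ?_
    change (a ≫ V.ι) t ∈ i ⁻¹ᵁ V'
    rw [hV', Scheme.Hom.comp_apply]
    exact (a t).2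
  refine ⟨IsOpenImmersion.lift V'.ι a' hr, ⟨?_, ?_⟩, fun c hc ↦ ?_⟩
  · rw [← cancel_mono V'.ι, Category.assoc, IsOpenImmersion.lift_fac, ha₁, Category.assoc,
      Category.assoc, Scheme.Hom.resLE_comp_ι]
  · rw [← cancel_mono U.ι, Category.assoc, Scheme.Hom.resLE_comp_ι, IsOpenImmersion.lift_fac_assoc,
      ha₂]
  · rw [← cancel_mono V'.ι, IsOpenImmersion.lift_fac]
    refine hau (c ≫ V'.ι) ⟨?_, ?_⟩
    · rw [← Category.assoc, hc.1, Category.assoc, Scheme.Hom.resLE_comp_ι, Category.assoc]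
    · rw [Category.assoc, ← Scheme.Hom.resLE_comp_ι _ hV'U, ← Category.assoc, hc.2]

/-- Two universal first order thickenings are isomorphic. -/
theorem exists_iso {Z'' : Scheme.{u}} {i₂ : Z ⟶ Z''} {h₂ : Z'' ⟶ X}
    (hu : OmegaSh.IsUnivThickening h i h') (hu₂ : OmegaSh.IsUnivThickening h i₂ h₂) :
    ∃ e : Z'' ≅ Z', i₂ ≫ e.hom = i ∧ e.hom ≫ h' = h₂ := by
  obtain ⟨a, ⟨ha₁, ha₂⟩, -⟩ := hu.2.2 Z Z'' i₂ h₂ (𝟙 Z) hu₂.1 (by rw [Category.id_comp, hu₂.2.1])
  obtain ⟨b, ⟨hb₁, hb₂⟩, -⟩ := hu₂.2.2 Z Z' i h' (𝟙 Z) hu.1 (by rw [Category.id_comp, hu.2.1])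
  rw [Category.id_comp] at ha₁ hb₁
  have h1 : a ≫ b = 𝟙 Z'' := by
    obtain ⟨c, -, hc⟩ := hu₂.2.2 Z Z'' i₂ h₂ (𝟙 Z) hu₂.1 (by rw [Category.id_comp, hu₂.2.1])
    rw [hc (a ≫ b) ⟨by rw [← Category.assoc, ha₁, hb₁, Category.id_comp],
      by rw [Category.assoc, hb₂, ha₂]⟩, ← hc (𝟙 _) ⟨by simp, by simp⟩]
  have h2 : b ≫ a = 𝟙 Z' := by
    obtain ⟨c, -, hc⟩ := hu.2.2 Z Z' i h' (𝟙 Z) hu.1 (by rw [Category.id_comp, hu.2.1])
    rw [hc (b ≫ a) ⟨by rw [← Category.assoc, hb₁, ha₁, Category.id_comp],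
      by rw [Category.assoc, ha₂, hb₂]⟩, ← hc (𝟙 _) ⟨by simp, by simp⟩]
  exact ⟨⟨a, b, h1, h2⟩, ha₁, ha₂⟩

end Groth.OmegaSheaf.UnivThick
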