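import Groth.Agent.OmegaSheaf.UnivThick.ToRing
import Groth.Agent.OmegaSheaf.PullChart

/-!
# Differentials of a universal thickening restrict to the differentials of the base
-/

universe u

open CategoryTheory Limits AlgebraicGeometry Opposite TopologicalSpace TensorProduct

namespace Groth.OmegaSheaf.UnivThick

open Groth.OmegaSheaf
open Groth.QCohMod (res res_res res_smul res_app res_self sectionsAlg pullSecTensor
  pullSecTensor_tmul pullSecTensor_bijective pullSecEquiv)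

/-- Pullback of sections is natural. -/
lemma pullSect_natural {X Y : Scheme.{u}} (f : Y ⟶ X) {M N : X.Modules} (φ : M ⟶ N) (U : X.Opens)
    (m : Γ(M, U)) :
    ((Scheme.Modules.pullback f).map φ).app (f ⁻¹ᵁ U) (OmegaSh.pullSect f M U m) =
      OmegaSh.pullSect f N U (φ.app U m) := by
  have h := (Scheme.Modules.pullbackPushforwardAdjunction f).unit.naturality φ
  exact (congr((Scheme.Modules.Hom.app $h U) m)).symm

variable {Z X S Z' : Scheme.{u}} {h : Z ⟶ X} {q : X ⟶ S} {i : Z ⟶ Z'} {h' : Z' ⟶ X}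
  {ΩX : X.Modules} {dX : OmegaSh.Der q ΩX} {ΩZ' : Z'.Modules} {dZ' : OmegaSh.Der (h' ≫ q) ΩZ'}
  {c : (Scheme.Modules.pullback h').obj ΩX ⟶ ΩZ'}

/-- `i^*h'^*Ω_{X/S} ≅ i^*Ω_{Z'/S}` for a universal first order thickening. -/
theorem isIso_pullback_diffCompat (hu : OmegaSh.IsUnivThickening h i h')
    (hdX : OmegaSh.IsUniversal dX) (hdZ' : OmegaSh.IsUniversal dZ')
    (hc : OmegaSh.IsDiffCompat h' dX dZ' c) : IsIso ((Scheme.Modules.pullback i).map c) := by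
  have := isQCoh_of_isUniversal hdX
  have := isQCoh_of_isUniversal hdZ'
  have := isClosedImmersion_of_fot hu.1
  refine isIso_of_affine_cover _ fun z ↦ ?_
  obtain ⟨c₁, hzU, -⟩ := exists_chart q (W := ⊤) (Opens.mem_top (h' (i z)))
  obtain ⟨_, ⟨V', hV', rfl⟩, hzV', hle⟩ := Z'.isBasis_affineOpens.exists_subset_of_mem_open
    (show i z ∈ h' ⁻¹ᵁ c₁.U from hzU) (h' ⁻¹ᵁ c₁.U).2
  have e : V' ≤ h' ⁻¹ᵁ c₁.U := hle
  have e₂ : V' ≤ (h' ≫ q) ⁻¹ᵁ c₁.V := e.trans (h'.preimage_mono c₁.e)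
  let c₂ : Chart (h' ≫ q) := ⟨V', c₁.V, hV', c₁.hV, e₂⟩
  have hT := hV'.preimage i
  refine ⟨i ⁻¹ᵁ V', hT, hzV', ?_⟩
  let _ := chartAlg q c₁.e
  let _ := chartAlg (h' ≫ q) e₂
  let _ := sectionsAlg h' e
  let _ := sectionsAlg i (le_refl (i ⁻¹ᵁ V'))
  let _ : Algebra Γ(X, c₁.U) Γ(Z, i ⁻¹ᵁ V') :=
    ((algebraMap Γ(Z', V') Γ(Z, i ⁻¹ᵁ V')).comp (algebraMap Γ(X, c₁.U) Γ(Z', V'))).toAlgebra
  have : IsScalarTower Γ(X, c₁.U) Γ(Z', V') Γ(Z, i ⁻¹ᵁ V') :=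
    IsScalarTower.of_algebraMap_eq fun _ ↦ rfl
  have : IsScalarTower Γ(S, c₁.V) Γ(X, c₁.U) Γ(Z', V') :=
    IsScalarTower.of_algebraMap_eq fun r ↦ (by
      change (h' ≫ q).appLE c₁.V V' e₂ r = (q.appLE c₁.V c₁.U c₁.e ≫ h'.appLE c₁.U V' e) r
      rw [Scheme.Hom.appLE_comp_appLE])
  have hbc := mapBaseChange_baseChange_bijective Γ(S, c₁.V) Γ(X, c₁.U) Γ(Z, i ⁻¹ᵁ V') Γ(Z', V')
    (isUnivRing_of_isUniv hu c₁.hU hV' e hT (fun _ ↦ rfl) _ fun x ↦ by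
      change i.appLE V' (i ⁻¹ᵁ V') le_rfl x = _
      rw [← Scheme.Hom.app_eq_appLE])
  let L := pullChartEquiv hdX h' c₁ hV' e
  let M₂ := universalChartEquiv hdZ' c₂
  let μ := KaehlerDifferential.mapBaseChange Γ(S, c₁.V) Γ(X, c₁.U) Γ(Z', V')
  have hcomp : ∀ z, c.app V' (L z) = M₂ (μ z) :=
    app_pullChartEquiv hdX h' c₁ hV' e hc e₂ μ fun b s ↦ by
      simp only [μ, KaehlerDifferential.mapBaseChange_tmul, KaehlerDifferential.map_D]
      rfl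
  let G := (Scheme.Modules.pullback h').obj ΩX
  let P₁ := pullSecTensor i G (le_refl (i ⁻¹ᵁ V'))
  let P₂ := pullSecTensor i ΩZ' (le_refl (i ⁻¹ᵁ V'))
  have hfun : ∀ x, ((Scheme.Modules.pullback i).map c).app (i ⁻¹ᵁ V')
      (P₁ (L.toLinearMap.baseChange Γ(Z, i ⁻¹ᵁ V') x)) =
        P₂ (M₂.toLinearMap.baseChange Γ(Z, i ⁻¹ᵁ V') (μ.baseChange Γ(Z, i ⁻¹ᵁ V') x)) := by
    intro x
    induction x using TensorProduct.induction_on with
    | zero => simp only [map_zero]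
    | add a b ha hb => simp only [map_add, ha, hb]
    | tmul b m =>
      rw [LinearMap.baseChange_tmul, LinearMap.baseChange_tmul, LinearMap.baseChange_tmul]
      change ((Scheme.Modules.pullback i).map c).app (i ⁻¹ᵁ V')
        (pullSecTensor i G le_rfl (b ⊗ₜ L m)) = pullSecTensor i ΩZ' le_rfl (b ⊗ₜ M₂ (μ m))
      rw [pullSecTensor_tmul, pullSecTensor_tmul, ← hcomp, Scheme.Modules.Hom.app_smul, res_self,
        res_self]
      congr 1
      exact pullSect_natural i c V' (L m)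
  have h1 : Function.Bijective (fun x ↦ P₁ (L.toLinearMap.baseChange Γ(Z, i ⁻¹ᵁ V') x)) :=
    (pullSecTensor_bijective i G (le_refl (i ⁻¹ᵁ V')) hV' hT).comp
      (L.baseChange Γ(Z', V') Γ(Z, i ⁻¹ᵁ V') _ _).bijective
  have h2 : Function.Bijective (fun x ↦ P₂ (M₂.toLinearMap.baseChange Γ(Z, i ⁻¹ᵁ V')
      (μ.baseChange Γ(Z, i ⁻¹ᵁ V') x))) :=
    ((pullSecTensor_bijective i ΩZ' (le_refl (i ⁻¹ᵁ V')) hV' hT).comp
      (M₂.baseChange Γ(Z', V') Γ(Z, i ⁻¹ᵁ V') _ _).bijective).comp hbc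
  rw [← funext hfun] at h2
  exact (Function.Bijective.of_comp_iff _ h1).mp h2

end Groth.OmegaSheaf.UnivThick
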