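import Groth.Agent.OmegaSheaf.UnivThick.Affine
import Groth.Agent.OmegaSheaf.UnivThickRing
import Mathlib.AlgebraicGeometry.Morphisms.FormallyUnramified

/-!
# Existence of universal first order thickenings
-/

universe u

open CategoryTheory Limits AlgebraicGeometry Opposite TopologicalSpace

namespace Groth.OmegaSheaf.UnivThick

open MoreMor (IsFirstOrderThickening)

variable {Z Z' X : Scheme.{u}} {h : Z ⟶ X} {i : Z ⟶ Z'} {h' : Z' ⟶ X}

/-- Universal thickenings transport along isomorphisms. -/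
theorem isUniv_of_iso (hu : OmegaSh.IsUnivThickening h i h') {Z₁ Z₁' : Scheme.{u}} (e : Z₁ ⟶ Z)
    (e' : Z₁' ⟶ Z') [IsIso e] [IsIso e'] (i₁ : Z₁ ⟶ Z₁') (w : i₁ ≫ e' = e ≫ i) :
    OmegaSh.IsUnivThickening (e ≫ h) i₁ (e' ≫ h') := by
  obtain ⟨hi, hih, huniv⟩ := hu
  refine ⟨fot_of_iso hi i₁ e e' w, by rw [reassoc_of% w, hih], fun S S' k b a hk hw ↦ ?_⟩
  obtain ⟨c, ⟨hc₁, hc₂⟩, hcu⟩ := huniv S S' k b (a ≫ e) hk (by rw [hw, Category.assoc])
  refine ⟨c ≫ inv e', ⟨?_, ?_⟩, fun d hd ↦ ?_⟩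
  · rw [← cancel_mono e', Category.assoc, Category.assoc, IsIso.inv_hom_id, Category.comp_id, hc₁,
      Category.assoc, Category.assoc, w]
  · rw [Category.assoc, IsIso.inv_hom_id_assoc, hc₂]
  · rw [← hcu (d ≫ e') ⟨?_, ?_⟩, Category.assoc, IsIso.hom_inv_id, Category.comp_id]
    · rw [← Category.assoc, hd.1, Category.assoc, w, Category.assoc]
    · rw [Category.assoc]; exact hd.2

/-- Universal thickenings restrict to opens of the thickening. -/
theorem isUniv_restrict (hu : OmegaSh.IsUnivThickening h i h') (V' : Z'.Opens) :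
    OmegaSh.IsUnivThickening ((i ⁻¹ᵁ V').ι ≫ h) (i ∣_ V') (V'.ι ≫ h') := by
  obtain ⟨hi, hih, huniv⟩ := hu
  refine ⟨fot_morphismRestrict hi V', by rw [morphismRestrict_ι_assoc, hih], fun S S' k b a hk w ↦ ?_⟩
  obtain ⟨a', ⟨ha₁, ha₂⟩, hau⟩ := huniv S S' k b (a ≫ (i ⁻¹ᵁ V').ι) hk (by rw [w, Category.assoc])
  have hr : Set.range a' ⊆ Set.range V'.ι := by
    rintro _ ⟨p, rfl⟩
    obtain ⟨t, rfl⟩ := exists_point hk p
    rw [Scheme.Opens.range_ι]
    refine (preimage_eq ha₁ (V' := V') t).mpr ?_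
    change (a ≫ (i ⁻¹ᵁ V').ι) t ∈ i ⁻¹ᵁ V'
    rw [Scheme.Hom.comp_apply]
    exact (a t).2
  refine ⟨IsOpenImmersion.lift V'.ι a' hr, ⟨?_, ?_⟩, fun c hc ↦ ?_⟩
  · rw [← cancel_mono V'.ι, Category.assoc, IsOpenImmersion.lift_fac, ha₁, Category.assoc,
      Category.assoc, morphismRestrict_ι]
  · rw [IsOpenImmersion.lift_fac_assoc, ha₂]
  · rw [← cancel_mono V'.ι, IsOpenImmersion.lift_fac]
    refine hau (c ≫ V'.ι) ⟨?_, ?_⟩
    · rw [← Category.assoc, hc.1, Category.assoc, morphismRestrict_ι, Category.assoc]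
    · rw [Category.assoc]; exact hc.2

/-- First order thickenings are local on the target. -/
lemma fot_of_local (H : ∀ p : Z', ∃ V' : Z'.Opens, p ∈ V' ∧ IsFirstOrderThickening (i ∣_ V')) :
    IsFirstOrderThickening i := by
  choose V hpV hV using H
  have hsup : iSup V = ⊤ := eq_top_iff.mpr fun p _ ↦ Opens.mem_iSup.mpr ⟨p, hpV p⟩
  have : IsClosedImmersion i := IsZariskiLocalAtTarget.of_iSup_eq_top V hsup
    fun p ↦ isClosedImmersion_of_fot (hV p)
  have : Surjective i := IsZariskiLocalAtTarget.of_iSup_eq_top V hsup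
    fun p ↦ surjective_of_fot (hV p)
  refine fot_of_forall i fun W _ x y hx hy ↦ Z'.IsSheaf.section_ext fun p hp ↦ ?_
  refine ⟨(V p).ι ''ᵁ ((V p).ι ⁻¹ᵁ W), (V p).ι.image_preimage_le W, ⟨⟨p, hpV p⟩, hp, rfl⟩, ?_⟩
  have key : ∀ z : Γ(Z', W), i.app W z = 0 → (i ∣_ V p).app ((V p).ι ⁻¹ᵁ W)
      (Z'.presheaf.map (homOfLE ((V p).ι.image_preimage_le W)).op z) = 0 := fun z hz ↦ by
    rw [morphismRestrict_app_eq_zero_iff]
    exact (congr($(i.naturality (homOfLE ((V p).ι.image_preimage_le W)).op) z)).trans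
      ((congrArg (Z.presheaf.map _).hom hz).trans (map_zero _))
  rw [map_zero, map_mul]
  exact mul_eq_zero_of_app (hV p) (key x hx) (key y hy)

/-- Inclusions of opens on points. -/
lemma homOfLE_ι_apply {A B : Z.Opens} (le : A ≤ B) (x : (A : Scheme.{u})) :
    B.ι (Z.homOfLE le x) = A.ι x := by
  rw [← Scheme.Hom.comp_apply, Scheme.homOfLE_ι]

variable (h) in
/-- The good opens of the source: affine opens over an affine open. -/
abbrev GoodOpen : Type u :=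
  {U : Z.Opens // IsAffineOpen U ∧ ∃ V : X.Opens, IsAffineOpen V ∧ U ≤ h ⁻¹ᵁ V}

lemma exists_goodOpen (h : Z ⟶ X) {z : Z} {W : Z.Opens} (hz : z ∈ W) :
    ∃ U : GoodOpen h, z ∈ U.1 ∧ U.1 ≤ W := by
  obtain ⟨_, ⟨V, hV, rfl⟩, hzV, -⟩ :=
    X.isBasis_affineOpens.exists_subset_of_mem_open (Set.mem_univ (h z)) isOpen_univ
  obtain ⟨_, ⟨U, hU, rfl⟩, hzU, hle⟩ := Z.isBasis_affineOpens.exists_subset_of_mem_open
    (show z ∈ W ⊓ h ⁻¹ᵁ V from ⟨hz, hzV⟩) (W ⊓ h ⁻¹ᵁ V).2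
  exact ⟨⟨U, hU, V, hV, fun p hp ↦ (hle hp).2⟩, hzU, fun p hp ↦ (hle hp).1⟩

variable (h) [FormallyUnramified h]

theorem exists_univ_goodOpen (U : GoodOpen h) :
    ∃ (T : Scheme.{u}) (i : (U.1 : Scheme.{u}) ⟶ T) (t : T ⟶ X),
      OmegaSh.IsUnivThickening (U.1.ι ≫ h) i t := by
  obtain ⟨hU, V, hV, e⟩ := U.2
  let _ := (h.appLE V U.1 e).hom.toAlgebra
  have : Algebra.FormallyUnramified Γ(X, V) Γ(Z, U.1) :=
    RingHom.formallyUnramified_algebraMap.mp (h.formallyUnramified_appLE hV hU e)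
  obtain ⟨S', _, _, π, hπ⟩ := Groth.OmegaSheaf.exists_univThickeningRing Γ(X, V) Γ(Z, U.1)
  have hu := isUniv_Spec π hπ hV.fromSpec
  have he : U.1.ι ≫ h = hU.isoSpec.hom ≫
      Spec.map (CommRingCat.ofHom (algebraMap Γ(X, V) Γ(Z, U.1))) ≫ hV.fromSpec := by
    rw [← hU.isoSpec_hom_fromSpec, Category.assoc]
    exact congrArg (hU.isoSpec.hom ≫ ·) (hV.SpecMap_appLE_fromSpec h hU e).symm
  refine ⟨_, hU.isoSpec.hom ≫ Spec.map (CommRingCat.ofHom π.toRingHom),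
    𝟙 _ ≫ Spec.map (CommRingCat.ofHom (algebraMap Γ(X, V) S')) ≫ hV.fromSpec, ?_⟩
  rw [he]
  exact isUniv_of_iso hu hU.isoSpec.hom (𝟙 _) _ (Category.comp_id _)

/-- A chosen universal thickening of a good open. -/
noncomputable def gT (U : GoodOpen h) : Scheme.{u} := (exists_univ_goodOpen h U).choose

/-- Its thickening map. -/
noncomputable def gI (U : GoodOpen h) : (U.1 : Scheme.{u}) ⟶ gT h U :=
  (exists_univ_goodOpen h U).choose_spec.choose

/-- Its structure map. -/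
noncomputable def gt (U : GoodOpen h) : gT h U ⟶ X :=
  (exists_univ_goodOpen h U).choose_spec.choose_spec.choose

lemma g_univ (U : GoodOpen h) : OmegaSh.IsUnivThickening (U.1.ι ≫ h) (gI h U) (gt h U) :=
  (exists_univ_goodOpen h U).choose_spec.choose_spec.choose_spec

lemma gMap_exists {U W : GoodOpen h} (le : U ≤ W) :
    ∃! c : gT h U ⟶ gT h W, gI h U ≫ c = Z.homOfLE le ≫ gI h W ∧ c ≫ gt h W = gt h U :=
  (g_univ h W).2.2 _ _ (gI h U) (gt h U) (Z.homOfLE le) (g_univ h U).1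
    (by rw [(g_univ h U).2.1, Scheme.homOfLE_ι_assoc])

/-- The transition maps. -/
noncomputable def gMap {U W : GoodOpen h} (le : U ≤ W) : gT h U ⟶ gT h W := (gMap_exists h le).choose

lemma gI_gMap {U W : GoodOpen h} (le : U ≤ W) : gI h U ≫ gMap h le = Z.homOfLE le ≫ gI h W :=
  (gMap_exists h le).choose_spec.1.1

lemma gMap_gt {U W : GoodOpen h} (le : U ≤ W) : gMap h le ≫ gt h W = gt h U :=
  (gMap_exists h le).choose_spec.1.2

lemma gMap_eq {U W : GoodOpen h} (le : U ≤ W) (c : gT h U ⟶ gT h W)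
    (h₁ : gI h U ≫ c = Z.homOfLE le ≫ gI h W) (h₂ : c ≫ gt h W = gt h U) : c = gMap h le :=
  (gMap_exists h le).choose_spec.2 c ⟨h₁, h₂⟩

instance isOpenImmersion_gMap {U W : GoodOpen h} (le : U ≤ W) : IsOpenImmersion (gMap h le) := by
  obtain ⟨V', hV'⟩ := exists_opens_preimage (g_univ h W).1 (W.1.ι ⁻¹ᵁ U.1)
  have hmem : ∀ q : (U.1 : Scheme.{u}), (Z.homOfLE le q) ∈ gI h W ⁻¹ᵁ V' := fun q ↦ by
    rw [hV']
    change (Z.homOfLE le ≫ W.1.ι) q ∈ U.1
    rw [Scheme.homOfLE_ι]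
    exact q.2
  have hrange : Set.range (Z.homOfLE le) = Set.range (gI h W ⁻¹ᵁ V').ι := by
    rw [Scheme.Opens.range_ι, hV']
    ext p
    refine ⟨?_, fun hp ↦ ⟨⟨W.1.ι p, hp⟩, W.1.ι.isOpenEmbedding.injective ?_⟩⟩
    · rintro ⟨q, rfl⟩
      exact hV' ▸ hmem q
    · exact homOfLE_ι_apply le ⟨_, hp⟩
  let e := IsOpenImmersion.isoOfRangeEq (Z.homOfLE le) (gI h W ⁻¹ᵁ V').ι hrange
  have he : e.hom ≫ (gI h W ⁻¹ᵁ V').ι = Z.homOfLE le :=
    IsOpenImmersion.isoOfRangeEq_hom_fac _ _ _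
  have hu := isUniv_of_iso (isUniv_restrict (g_univ h W) V') e.hom (𝟙 _)
    (e.hom ≫ gI h W ∣_ V') (Category.comp_id _)
  rw [reassoc_of% he, Scheme.homOfLE_ι_assoc, Category.id_comp] at hu
  obtain ⟨d, hd₁, hd₂⟩ := exists_iso hu (g_univ h U)
  rw [← gMap_eq h le (d.hom ≫ V'.ι) (by
    rw [reassoc_of% hd₁, morphismRestrict_ι, reassoc_of% he]) (by rw [Category.assoc, hd₂])]
  infer_instance

lemma gMap_apply {U W : GoodOpen h} (le : U ≤ W) (x : (U.1 : Scheme.{u})) :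
    gMap h le (gI h U x) = gI h W (Z.homOfLE le x) := by
  rw [← Scheme.Hom.comp_apply, gI_gMap, Scheme.Hom.comp_apply]

/-- The diagram of local thickenings. -/
noncomputable abbrev gFunctor : GoodOpen h ⥤ Scheme.{u} where
  obj U := gT h U
  map f := gMap h (leOfHom f)
  map_id U := (gMap_eq h _ _ (by simp) (Category.id_comp _)).symm
  map_comp {U V W} f g := (gMap_eq h _ _
    (by rw [← Category.assoc, gI_gMap, Category.assoc, gI_gMap, Scheme.homOfLE_homOfLE_assoc])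
    (by rw [Category.assoc, gMap_gt, gMap_gt])).symm

instance {U W : GoodOpen h} (f : U ⟶ W) : IsOpenImmersion ((gFunctor h).map f) :=
  isOpenImmersion_gMap h (leOfHom f)

lemma gI_injective (U : GoodOpen h) : Function.Injective (gI h U) :=
  by
  have := isClosedImmersion_of_fot (g_univ h U).1
  exact (gI h U).isClosedEmbedding.injective

instance : (gFunctor h ⋙ Scheme.forget).IsLocallyDirected where
  cond {Ui Uj Uk} fi fj xi xj heq := by
    obtain ⟨z, rfl⟩ := exists_point (g_univ h Ui).1 xi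
    obtain ⟨z', rfl⟩ := exists_point (g_univ h Uj).1 xj
    change gMap h (leOfHom fi) (gI h Ui z) = gMap h (leOfHom fj) (gI h Uj z') at heq
    rw [← Scheme.Hom.comp_apply, ← Scheme.Hom.comp_apply, gI_gMap, gI_gMap,
      Scheme.Hom.comp_apply, Scheme.Hom.comp_apply] at heq
    have hzz : (Ui.1.ι z) = Uj.1.ι z' := by
      have := congrArg Uk.1.ι (gI_injective h Uk heq)
      rwa [← Scheme.Hom.comp_apply, ← Scheme.Hom.comp_apply, Scheme.homOfLE_ι,
        Scheme.homOfLE_ι] at this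
    obtain ⟨L, hzL, hL⟩ := exists_goodOpen h (show Ui.1.ι z ∈ Ui.1 ⊓ Uj.1 from
      ⟨z.2, hzz ▸ z'.2⟩)
    refine ⟨L, homOfLE (hL.trans inf_le_left), homOfLE (hL.trans inf_le_right),
      gI h L ⟨Ui.1.ι z, hzL⟩, ?_, ?_⟩
    · refine (gMap_apply h _ _).trans (congrArg (gI h Ui) (Ui.1.ι.isOpenEmbedding.injective ?_))
      exact homOfLE_ι_apply _ _
    · refine (gMap_apply h _ _).trans (congrArg (gI h Uj) (Uj.1.ι.isOpenEmbedding.injective ?_))
      exact (homOfLE_ι_apply _ _).trans hzz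

open Scheme in
/-- A formally unramified morphism has a universal first order thickening. -/
theorem exists_isUnivThickening :
    ∃ (Z' : Scheme.{u}) (i : Z ⟶ Z') (h' : Z' ⟶ X), OmegaSh.IsUnivThickening h i h' := by
  let 𝒰 : Z.OpenCover := Z.openCoverOfIsOpenCover (fun U : GoodOpen h ↦ U.1)
    (TopologicalSpace.IsOpenCover.mk (eq_top_iff.mpr fun p _ ↦ by
      obtain ⟨U, hU, -⟩ := exists_goodOpen h (show p ∈ (⊤ : Z.Opens) from trivial)
      exact Opens.mem_iSup.mpr ⟨U, hU⟩))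
  have hι : ∀ {U W : GoodOpen h} (le : U ≤ W), gMap h le ≫ colimit.ι (gFunctor h) W = colimit.ι (gFunctor h) U :=
    fun le ↦ colimit.w (gFunctor h) (homOfLE le)
  have hag : ∀ U W : GoodOpen h,
      pullback.fst U.1.ι W.1.ι ≫ gI h U ≫ colimit.ι (gFunctor h) U =
        pullback.snd U.1.ι W.1.ι ≫ gI h W ≫ colimit.ι (gFunctor h) W := by
    intro U W
    let π := pullback.fst U.1.ι W.1.ι ≫ U.1.ι
    let O := π.opensRange
    have hOp : O ≤ U.1 := by
      rintro _ ⟨x, rfl⟩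
      change ((pullback.fst U.1.ι W.1.ι ≫ U.1.ι) x) ∈ U.1
      rw [Scheme.Hom.comp_apply]
      exact (pullback.fst U.1.ι W.1.ι x).2
    have hOq : O ≤ W.1 := by
      rintro _ ⟨x, rfl⟩
      change ((pullback.fst U.1.ι W.1.ι ≫ U.1.ι) x) ∈ W.1
      rw [pullback.condition, Scheme.Hom.comp_apply]
      exact (pullback.snd U.1.ι W.1.ι x).2
    have e1 : π.isoOpensRange.hom ≫ Z.homOfLE hOp = pullback.fst U.1.ι W.1.ι := by
      simp [← cancel_mono U.1.ι, π, O]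
    have e2 : π.isoOpensRange.hom ≫ Z.homOfLE hOq = pullback.snd U.1.ι W.1.ι := by
      simp [← cancel_mono W.1.ι, π, O, pullback.condition]
    rw [← e1, ← e2, Category.assoc, Category.assoc]
    congr 1
    refine Scheme.hom_ext_of_forall _ _ fun p ↦ ?_
    obtain ⟨L, hpL, hL⟩ := exists_goodOpen h (show O.ι p ∈ O from p.2)
    refine ⟨O.ι ⁻¹ᵁ L.1, hpL, ?_⟩
    have hle : (O.ι ⁻¹ᵁ L.1).ι ≫ O.ι = (O.ι.resLE L.1 _ le_rfl) ≫ Z.homOfLE hL ≫ O.ι := by
      rw [Scheme.homOfLE_ι, Scheme.Hom.resLE_comp_ι]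
    have hfac : (O.ι ⁻¹ᵁ L.1).ι = O.ι.resLE L.1 _ le_rfl ≫ Z.homOfLE hL :=
      (cancel_mono O.ι).mp (by rw [hle, Category.assoc])
    simp only [hfac, Category.assoc]
    congr 1
    rw [Scheme.homOfLE_homOfLE_assoc, Scheme.homOfLE_homOfLE_assoc,
      ← reassoc_of% gI_gMap h (show L ≤ U from hL.trans hOp),
      ← reassoc_of% gI_gMap h (show L ≤ W from hL.trans hOq), hι, hι]
  let i : Z ⟶ colimit (gFunctor h) := 𝒰.glueMorphisms (fun U ↦ gI h U ≫ colimit.ι (gFunctor h) U) hag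
  have hi : ∀ U : GoodOpen h, U.1.ι ≫ i = gI h U ≫ colimit.ι (gFunctor h) U :=
    fun U ↦ 𝒰.ι_glueMorphisms _ hag U
  let h' : colimit (gFunctor h) ⟶ X := colimit.desc (gFunctor h)
    { pt := X
      ι := { app := fun U ↦ gt h U
             naturality := fun U W f ↦ by
              change gMap h (leOfHom f) ≫ gt h W = gt h U ≫ 𝟙 X
              rw [gMap_gt, Category.comp_id] } }
  have hh' : ∀ U : GoodOpen h, colimit.ι (gFunctor h) U ≫ h' = gt h U := fun U ↦ colimit.ι_desc _ U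
  have w : i ≫ h' = h := 𝒰.hom_ext _ _ fun (U : GoodOpen h) ↦ by
    change U.1.ι ≫ i ≫ h' = U.1.ι ≫ h
    rw [reassoc_of% (hi U), hh', (g_univ h U).2.1]
  have hpre : ∀ U : GoodOpen h, i ⁻¹ᵁ (colimit.ι (gFunctor h) U).opensRange = U.1 := by
    intro U
    ext z
    constructor
    · rintro ⟨x, hx⟩
      obtain ⟨W, hzW, -⟩ := exists_goodOpen h (show z ∈ (⊤ : Z.Opens) from trivial)
      have hz : i z = colimit.ι (gFunctor h) W (gI h W ⟨z, hzW⟩) :=
        ((Scheme.Hom.comp_apply W.1.ι i (⟨z, hzW⟩ : (W.1 : Scheme.{u}))).symm.trans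
          (congr(($(hi W)) (⟨z, hzW⟩ : (W.1 : Scheme.{u}))))).trans (Scheme.Hom.comp_apply _ _ _)
      rw [hz] at hx
      obtain ⟨K, fi, fj, y, hy₁, hy₂⟩ := (Scheme.IsLocallyDirected.ι_eq_ι_iff (gFunctor h)).mp hx
      obtain ⟨q, rfl⟩ := exists_point (g_univ h K).1 y
      change gMap h (leOfHom fj) (gI h K q) = gI h W ⟨z, hzW⟩ at hy₂
      rw [← Scheme.Hom.comp_apply, gI_gMap, Scheme.Hom.comp_apply] at hy₂
      have := congrArg W.1.ι (gI_injective h W hy₂)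
      rw [← Scheme.Hom.comp_apply, Scheme.homOfLE_ι] at this
      change z ∈ U.1
      have hz' : K.1.ι q = z := this
      rw [← hz']
      exact leOfHom fi q.2
    · intro hz
      refine ⟨gI h U ⟨z, hz⟩, ?_⟩
      exact (((Scheme.Hom.comp_apply U.1.ι i (⟨z, hz⟩ : (U.1 : Scheme.{u}))).symm.trans
          (congr(($(hi U)) (⟨z, hz⟩ : (U.1 : Scheme.{u}))))).trans (Scheme.Hom.comp_apply _ _ _)).symm
  have hloc : ∀ U : GoodOpen h, OmegaSh.IsUnivThickening
      ((i ⁻¹ᵁ (colimit.ι (gFunctor h) U).opensRange).ι ≫ h) (i ∣_ (colimit.ι (gFunctor h) U).opensRange)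
      ((colimit.ι (gFunctor h) U).opensRange.ι ≫ h') := by
    intro U
    let V' := (colimit.ι (gFunctor h) U).opensRange
    let e : (i ⁻¹ᵁ V' : Scheme.{u}) ≅ U.1 := Z.isoOfEq (hpre U)
    let e' := (colimit.ι (gFunctor h) U).isoOpensRange
    have he' : e'.inv ≫ colimit.ι (gFunctor h) U = V'.ι := Scheme.Hom.isoOpensRange_inv_comp _
    have := isUniv_of_iso (g_univ h U) e.hom e'.inv (i ∣_ V') (by
      rw [← cancel_mono (colimit.ι (gFunctor h) U), Category.assoc, he', morphismRestrict_ι, Category.assoc,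
        ← hi U, Scheme.isoOfEq_hom_ι_assoc])
    rwa [Scheme.isoOfEq_hom_ι_assoc, ← hh' U, reassoc_of% he'] at this
  have hcov : ∀ p : ↑(colimit (gFunctor h)), ∃ U, p ∈ (colimit.ι (gFunctor h) U).opensRange := fun p ↦ by
    obtain ⟨U, x, hx⟩ := Scheme.IsLocallyDirected.ι_jointly_surjective (gFunctor h) p
    exact ⟨U, x, hx⟩
  refine ⟨colimit (gFunctor h), i, h', isUniv_of_local ?_ w fun p ↦ ?_⟩
  · exact fot_of_local fun p ↦ (hcov p).elim fun U hU ↦ ⟨_, hU, (hloc U).1⟩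
  · obtain ⟨U, hU⟩ := hcov p
    exact ⟨_, hU, hloc U⟩

end Groth.OmegaSheaf.UnivThick
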