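import Groth.Agent.OmegaSheaf.UnivThick.Affine
import Groth.Agent.OmegaSheaf.UnivThick.Basic
import Groth.Agent.OmegaSheaf.ConormalTriangle
import Groth.Agent.OmegaSheaf.ExactLocal
import Groth.Agent.CohTwo.HomNhd
import Groth.Agent.FlatMor2.ClosedLift
import Groth.Prelude.Def_MoreMor

/-!
# The conormal sequence of universal thickenings under formal smoothness is locally split
-/

universe u

open CategoryTheory Limits AlgebraicGeometry Opposite TopologicalSpace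

noncomputable section

namespace Groth.OmegaSheaf.UnivThick

open Groth.OmegaSheaf
open Groth.QCohMod (res res_res res_self res_app)
open Groth.CohTwo (appOn appOn_res germ_appOn_eq)

/-- An endomorphism over an affine open fixing all sections over it is the identity. -/
lemma eq_id_of_appOn {T : Scheme.{u}} {G : T.Modules} [G.IsQuasicoherent] {V : T.Opens}
    (hV : IsAffineOpen V) (χ : G.restrict V.ι ⟶ G.restrict V.ι)
    (h : ∀ a : Γ(G, V), appOn χ le_rfl a = a) : χ = 𝟙 _ := by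
  have key : ∀ (W : T.Opens) (hW : W ≤ V) (a : Γ(G, W)), appOn χ hW a = a := fun W hW a => by
    refine TopCat.Presheaf.section_ext ⟨G.presheaf, G.isSheaf⟩ W _ _ fun x hx => ?_
    exact germ_appOn_eq hV χ (hW hx) LinearMap.id (fun m => congrArg _ (h m)) hx hW a
  ext W' z
  change χ.app W' z = z
  have hWV : V.ι ''ᵁ W' ≤ V := by
    rintro _ ⟨t, -, rfl⟩
    exact t.2
  have e : V.ι ⁻¹ᵁ (V.ι ''ᵁ W') = W' := V.ι.preimage_image_eq W'
  have h2 := key (V.ι ''ᵁ W') hWV (show Γ(G, V.ι ''ᵁ W') from z)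
  unfold appOn at h2
  have h3 := Groth.QCohMod.res_app χ e.le (show Γ(G.restrict V.ι, W') from z)
  change res (G.restrict V.ι) e.le (χ.app W' z) = χ.app (V.ι ⁻¹ᵁ (V.ι ''ᵁ W'))
    (res G (V.ι.image_preimage_le (V.ι ''ᵁ W')) (show Γ(G, V.ι ''ᵁ W') from z)) at h3
  have h3' : Groth.QCohMod.res G (V.ι.image_mono e.le) (show Γ(G, V.ι ''ᵁ W') from χ.app W' z) =
      (show Γ(G, V.ι ''ᵁ (V.ι ⁻¹ᵁ (V.ι ''ᵁ W'))) from χ.app (V.ι ⁻¹ᵁ (V.ι ''ᵁ W'))
        (res G (V.ι.image_preimage_le (V.ι ''ᵁ W')) (show Γ(G, V.ι ''ᵁ W') from z))) := h3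
  set z1 : Γ(G, V.ι ''ᵁ W') := χ.app W' z with hz1
  clear_value z1
  set z2 : Γ(G, V.ι ''ᵁ (V.ι ⁻¹ᵁ (V.ι ''ᵁ W'))) := χ.app (V.ι ⁻¹ᵁ (V.ι ''ᵁ W'))
        (res G (V.ι.image_preimage_le (V.ι ''ᵁ W')) (show Γ(G, V.ι ''ᵁ W') from z)) with hz2
  clear_value z2
  have hle : V.ι ''ᵁ W' ≤ V.ι ''ᵁ (V.ι ⁻¹ᵁ (V.ι ''ᵁ W')) := V.ι.image_mono e.ge
  have h2' : Groth.QCohMod.res G hle z2 = (show Γ(G, V.ι ''ᵁ W') from z) := by
    rw [hz2]
    exact h2
  rw [← h3', res_res, res_self] at h2'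
  exact h2'

variable {Z X Y Z' Z'' : Scheme.{u}} {i : Z ⟶ X} {p : X ⟶ Y} {i' : Z ⟶ Z'} {a : Z' ⟶ X}
  {b : Z'' ⟶ Y} {k : Z' ⟶ Z''}

/-- Formal smoothness retracts the map of universal thickenings over an affine open. -/
lemma exists_retraction (hp : MoreMor.IsFormallySmoothHom p)
    (hZ' : OmegaSh.IsUnivThickening i i' a) (hZ'' : OmegaSh.IsUnivThickening (i ≫ p) (i' ≫ k) b)
    (hk₂ : k ≫ b = a ≫ p) {W : Z''.Opens} (hW : IsAffineOpen W) :
    ∃ (_ : IsAffineOpen (k ⁻¹ᵁ W)) (α : Γ(Z', k ⁻¹ᵁ W) ⟶ Γ(Z'', W)),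
      α ≫ (i' ≫ k).app W = i'.app (k ⁻¹ᵁ W) ∧ k.app W ≫ α = 𝟙 _ := by
  have := isClosedImmersion_of_fot hZ''.1
  have := isClosedImmersion_of_fot hZ'.1
  let U : Z.Opens := (i' ≫ k) ⁻¹ᵁ W
  have hU : IsAffineOpen U := hW.preimage (i' ≫ k)
  have hW' : IsAffineOpen (k ⁻¹ᵁ W) := by
    have hfot := fot_morphismRestrict hZ'.1 (k ⁻¹ᵁ W)
    have := isClosedImmersion_of_fot hfot
    have := surjective_of_fot hfot
    have : IsAffine (i' ⁻¹ᵁ (k ⁻¹ᵁ W) : Z.Opens) := hU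
    exact Groth.FlatMor2.isAffine_of_surjective_closedImmersion (i' ∣_ (k ⁻¹ᵁ W))
  refine ⟨hW', ?_⟩
  let π : Γ(Z'', W) ⟶ Γ(Z, U) := (i' ≫ k).app W
  have hs : Function.Surjective π := (i' ≫ k).app_surjective W hW
  have hker : RingHom.ker π.hom ^ 2 = ⊥ := by
    rw [pow_two, ← le_bot_iff, Ideal.mul_le]
    exact fun x hx y hy => mul_eq_zero_of_app hZ''.1 hx hy
  have hfot := fot_Spec π hs hker
  have hπ : Spec.map π ≫ hW.fromSpec = hU.fromSpec ≫ i' ≫ k := by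
    show Spec.map ((i' ≫ k).app W) ≫ _ = _
    rw [Scheme.Hom.app_eq_appLE]
    exact hW.SpecMap_appLE_fromSpec (i' ≫ k) hU le_rfl
  let I : Ideal Γ(Z'', W) := RingHom.ker π.hom
  let e : Γ(Z'', W) ⧸ I ≃+* Γ(Z, U) := RingHom.quotientKerEquivOfSurjective hs
  let es : Γ(Z, U) ⟶ CommRingCat.of (Γ(Z'', W) ⧸ I) := CommRingCat.ofHom e.symm.toRingHom
  have hes : π ≫ es = CommRingCat.ofHom (Ideal.Quotient.mk I) := by
    ext x
    exact (e.symm_apply_eq).2 rfl
  have he : CommRingCat.ofHom (Ideal.Quotient.mk I) ≫ CommRingCat.ofHom e.toRingHom = π := by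
    ext x
    rfl
  have hee : es ≫ CommRingCat.ofHom e.toRingHom = 𝟙 _ := by
    ext x
    exact e.apply_symm_apply x
  have hw : i' ≫ k ≫ b = i ≫ p := by rw [← Category.assoc]; exact hZ''.2.1
  obtain ⟨l, hl₁, hl₂⟩ := hp Γ(Z'', W) I hker (Spec.map es ≫ hU.fromSpec ≫ i)
    (hW.fromSpec ≫ b) (by
      show Spec.map (CommRingCat.ofHom (Ideal.Quotient.mk I)) ≫ hW.fromSpec ≫ b = _
      rw [← hes, Spec.map_comp, Category.assoc, reassoc_of% hπ, hw, Category.assoc,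
        Category.assoc])
  have hl : Spec.map π ≫ l = hU.fromSpec ≫ i := by
    rw [← he, Spec.map_comp, Category.assoc, hl₁, ← Spec.map_comp_assoc, hee, Spec.map_id,
      Category.id_comp]
  obtain ⟨a', ⟨ha₁, ha₂⟩, -⟩ := hZ'.2.2 _ _ (Spec.map π) l hU.fromSpec hfot hl
  have hak : a' ≫ k = hW.fromSpec :=
    (hZ''.2.2 _ _ (Spec.map π) (hW.fromSpec ≫ b) hU.fromSpec hfot (by
      rw [reassoc_of% hπ, hw])).unique
      ⟨by rw [reassoc_of% ha₁], by rw [Category.assoc, hk₂, reassoc_of% ha₂, hl₂]⟩ ⟨hπ, rfl⟩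
  have hr : Set.range a' ⊆ Set.range hW'.fromSpec := by
    rintro _ ⟨q, rfl⟩
    rw [hW'.range_fromSpec]
    show k (a' q) ∈ W
    rw [← Scheme.Hom.comp_apply, hak]
    exact hW.range_fromSpec.le ⟨q, rfl⟩
  obtain ⟨α, hα⟩ := Spec.map_surjective (IsOpenImmersion.lift hW'.fromSpec a' hr)
  have hα' : Spec.map α ≫ hW'.fromSpec = a' := by rw [hα, IsOpenImmersion.lift_fac]
  refine ⟨α, Spec.map_injective ?_, Spec.map_injective ?_⟩
  · rw [← cancel_mono hW'.fromSpec, Spec.map_comp, Category.assoc, hα', ha₁,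
      Scheme.Hom.app_eq_appLE]
    exact (hW'.SpecMap_appLE_fromSpec i' hU le_rfl).symm
  · rw [← cancel_mono hW.fromSpec, Spec.map_comp, Category.assoc, Scheme.Hom.app_eq_appLE,
      hW.SpecMap_appLE_fromSpec k hW' le_rfl, reassoc_of% hα', hak, Spec.map_id, Category.id_comp]

variable {ψ : (Scheme.Modules.pullback (𝟙 Z)).obj (Omega.conormal (i' ≫ k)) ⟶ Omega.conormal i'}

/-- The map of conormal sheaves of universal thickenings is locally split injective. -/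
theorem exists_conormalRetraction (hp : MoreMor.IsFormallySmoothHom p)
    (hZ' : OmegaSh.IsUnivThickening i i' a) (hZ'' : OmegaSh.IsUnivThickening (i ≫ p) (i' ≫ k) b)
    (hk₂ : k ≫ b = a ≫ p) (hψ : OmegaSh.IsConormalMap i' (i' ≫ k) k (𝟙 Z) ψ) (z : Z) :
    ∃ (U : Z.Opens) (r : (Scheme.Modules.restrictFunctor U.ι).obj (Omega.conormal i') ⟶
        (Scheme.Modules.restrictFunctor U.ι).obj
          ((Scheme.Modules.pullback (𝟙 Z)).obj (Omega.conormal (i' ≫ k)))),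
      z ∈ U ∧ IsAffineOpen U ∧ Function.Injective (ψ.app U) ∧
        (Scheme.Modules.restrictFunctor U.ι).map ψ ≫ r = 𝟙 _ := by
  have := isClosedImmersion_of_fot hZ''.1
  have := isClosedImmersion_of_fot hZ'.1
  obtain ⟨_, ⟨W, hW, rfl⟩, hzW, -⟩ := Z''.isBasis_affineOpens.exists_subset_of_mem_open
    (Set.mem_univ ((i' ≫ k) z)) isOpen_univ
  obtain ⟨hW', α, hα₁, hα₂⟩ := exists_retraction hp hZ' hZ'' hk₂ hW
  let P := (Scheme.Modules.pullback (𝟙 Z)).obj (Omega.conormal (i' ≫ k))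
  let C' := Omega.conormal i'
  have : P.IsQuasicoherent := inferInstance
  have : C'.IsQuasicoherent := isQCoh_conormal i'
  let U : Z.Opens := i' ⁻¹ᵁ (k ⁻¹ᵁ W)
  have hU : IsAffineOpen U := hW'.preimage i'
  have hc' : IsConormalChart i' (k ⁻¹ᵁ W) := ⟨hW', hU, i'.app_surjective _ hW'⟩
  have hc'' : IsConormalChart (i' ≫ k) W := ⟨hW, hW.preimage _, (i' ≫ k).app_surjective _ hW⟩
  have hc1 : IsConormalChart (𝟙 Z) U := ⟨hU, hU, fun x => ⟨x, rfl⟩⟩
  have hαk : ∀ x : Γ(Z'', W), α (k.app W x) = x := fun x =>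
    ConcreteCategory.congr_hom hα₂ x
  have hpα : ∀ x : Γ(Z', k ⁻¹ᵁ W), (i' ≫ k).app W (α x) = i'.app (k ⁻¹ᵁ W) x := fun x =>
    ConcreteCategory.congr_hom hα₁ x
  -- the conormal sections over the chart are the ideals
  have hzero : ∀ s : Γ(ClSub.idealMod i'.ker, k ⁻¹ᵁ W),
      OmegaSh.conormalSect i' (k ⁻¹ᵁ W) s = 0 → s = 0 := fun s hs => by
    have h := (hc'.conormalSect_eq_zero_iff s).1 hs
    have hker : RingHom.ker (i'.app (k ⁻¹ᵁ W)).hom ^ 2 = ⊥ := by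
      rw [pow_two, ← le_bot_iff, Ideal.mul_le]
      exact fun x hx y hy => mul_eq_zero_of_app hZ'.1 hx hy
    rw [hker, Ideal.mem_bot] at h
    exact idealSect_injective _ _ (h.trans (map_zero _).symm)
  have hlift : ∀ s : Γ(ClSub.idealMod i'.ker, k ⁻¹ᵁ W),
      ∃ t : Γ(ClSub.idealMod (i' ≫ k).ker, W),
        OmegaSh.idealSect (i' ≫ k).ker W t = α (OmegaSh.idealSect i'.ker (k ⁻¹ᵁ W) s) :=
    fun s => exists_idealSect_of_app_eq_zero (i' ≫ k) ((hpα _).trans (app_idealSect i' _ s))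
  choose t ht using hlift
  choose s hs using hc'.conormalSect_surjective
  have hinj : ∀ s₁ s₂, OmegaSh.conormalSect i' (k ⁻¹ᵁ W) s₁ = OmegaSh.conormalSect i' (k ⁻¹ᵁ W) s₂ →
      s₁ = s₂ := fun s₁ s₂ h => sub_eq_zero.1 (hzero _ (by rw [map_sub, h, sub_self]))
  let J : Γ(ClSub.idealMod (i' ≫ k).ker, W) → Γ(P, U) := fun t' =>
    OmegaSh.pullSect (𝟙 Z) (Omega.conormal (i' ≫ k)) U (OmegaSh.conormalSect (i' ≫ k) W t')
  let g : Γ(C', U) →ₗ[Γ(Z, U)] Γ(P, U) :=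
    { toFun := fun m => J (t (s m))
      map_add' := fun m m' => by
        have e : t (s (m + m')) = t (s m) + t (s m') := idealSect_injective _ _ (by
          rw [ht, hinj (s (m + m')) (s m + s m') (by rw [hs, map_add, hs, hs]), map_add, map_add,
            map_add, ht, ht])
        simp only [J]
        rw [e, map_add]
        exact map_add _ _ _
      map_smul' := fun c m => by
        obtain ⟨c', hc⟩ := hc'.surjective c
        have e : t (s (c • m)) = α c' • t (s m) := idealSect_injective _ _ (by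
          rw [ht, hinj (s (c • m)) (c' • s m) (by rw [hs, conormalSect_smul, hs, hc]),
            idealSect_smul, idealSect_smul, map_mul, ht])
        simp only [J, RingHom.id_apply]
        rw [e, conormalSect_smul, hpα, hc]
        exact pullSect_smul (𝟙 Z) (Omega.conormal (i' ≫ k)) U c _ }
  have hψJ : ∀ t' : Γ(ClSub.idealMod (i' ≫ k).ker, W),
      ∃ m : Γ(C', U), ψ.app U (J t') = m ∧ g m = J t' := by
    intro t'
    obtain ⟨s', hs'⟩ := exists_lift_base (i := i') (p := k) W t'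
    have h1 := hψ.2 W t' s' hs' U le_rfl le_rfl
    change res C' le_rfl (ψ.app U (J t')) =
      res C' le_rfl (OmegaSh.conormalSect i' (k ⁻¹ᵁ W) s') at h1
    rw [res_self, res_self] at h1
    refine ⟨_, h1, ?_⟩
    show J (t (s (OmegaSh.conormalSect i' (k ⁻¹ᵁ W) s'))) = J t'
    congr 1
    refine idealSect_injective _ _ ?_
    rw [ht, hinj _ s' (hs _), hs', hαk]
  have hgψ : ∀ x : Γ(P, U), g (ψ.app U x) = x := fun x => by
    obtain ⟨y, rfl⟩ := (hc1.pullSect_app (Omega.conormal (i' ≫ k))).1 x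
    obtain ⟨t', rfl⟩ := hc''.conormalSect_surjective y
    obtain ⟨m, hm, hm'⟩ := hψJ t'
    exact (congrArg g hm).trans hm'
  obtain ⟨r, hr⟩ := Groth.CohTwo.exists_hom_of_sections C' P hU g
  refine ⟨U, r, hzW, hU, Function.LeftInverse.injective hgψ, eq_id_of_appOn hU _ fun x => ?_⟩
  refine Eq.trans ?_ (hgψ x)
  rw [← hr]
  unfold appOn
  change res P _ (r.app _ (ψ.app _ (res P _ x))) = res P _ (r.app _ (res C' _ (ψ.app U x)))
  congr 2
  exact (res_app ψ _ x).symm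

end Groth.OmegaSheaf.UnivThick
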