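import Groth.Agent.OmegaSheaf.UnivThick.Basic

/-!
# Universal first order thickenings are a local notion
-/

universe u

open CategoryTheory Limits AlgebraicGeometry Opposite TopologicalSpace

namespace Groth.OmegaSheaf.UnivThick

open MoreMor (IsFirstOrderThickening)

variable {Z Z' X : Scheme.{u}} (i : Z ⟶ Z') (h' : Z' ⟶ X)

/-- A lift of a test pair to the thickening. -/
def IsLift {S S' : Scheme.{u}} (k : S ⟶ S') (b : S' ⟶ X) (a : S ⟶ Z) (a' : S' ⟶ Z') : Prop :=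
  k ≫ a' = a ≫ i ∧ a' ≫ h' = b

/-- At most one lift for every test pair. -/
def LiftsUnique : Prop :=
  ∀ (S S' : Scheme.{u}) (k : S ⟶ S') (b : S' ⟶ X) (a : S ⟶ Z), IsFirstOrderThickening k →
    ∀ c d, IsLift i h' k b a c → IsLift i h' k b a d → c = d

variable {i h'} {S S' : Scheme.{u}} {k : S ⟶ S'} {b : S' ⟶ X} {a : S ⟶ Z}

lemma IsLift.restrict {c : S' ⟶ Z'} (hc : IsLift i h' k b a c) (W : S'.Opens) :
    IsLift i h' (k ∣_ W) (W.ι ≫ b) ((k ⁻¹ᵁ W).ι ≫ a) (W.ι ≫ c) := by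
  refine ⟨?_, by rw [Category.assoc, hc.2]⟩
  rw [morphismRestrict_ι_assoc, hc.1, Category.assoc]

/-- Uniqueness of lifts may be tested on a cover of the test scheme. -/
lemma lift_ext_of_cover {c d : S' ⟶ Z'}
    (hW : ∀ p : S', ∃ W : S'.Opens, p ∈ W ∧ W.ι ≫ c = W.ι ≫ d) : c = d :=
  Scheme.hom_ext_of_forall c d hW

/-- Lifts may be constructed on a cover of the test scheme. -/
theorem exists_lift_of_cover (hu : LiftsUnique i h') (hk : IsFirstOrderThickening k)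
    (hW : ∀ p : S', ∃ (W : S'.Opens) (c : (W : Scheme.{u}) ⟶ Z'), p ∈ W ∧
      IsLift i h' (k ∣_ W) (W.ι ≫ b) ((k ⁻¹ᵁ W).ι ≫ a) c) :
    ∃ c, IsLift i h' k b a c := by
  choose W c hp hc using hW
  let 𝒰 : S'.OpenCover :=
    S'.openCoverOfIsOpenCover W (TopologicalSpace.IsOpenCover.mk
      (eq_top_iff.mpr fun p _ ↦ Opens.mem_iSup.mpr ⟨p, hp p⟩))
  have hag : ∀ p q : S', pullback.fst (W p).ι (W q).ι ≫ c p = pullback.snd (W p).ι (W q).ι ≫ c q := by
    intro p q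
    let π := pullback.fst (W p).ι (W q).ι ≫ (W p).ι
    let O := π.opensRange
    have hOp : O ≤ W p := by
      rintro _ ⟨x, rfl⟩
      change ((pullback.fst (W p).ι (W q).ι ≫ (W p).ι) x) ∈ W p
      rw [Scheme.Hom.comp_apply]
      exact (pullback.fst (W p).ι (W q).ι x).2
    have hOq : O ≤ W q := by
      rintro _ ⟨x, rfl⟩
      change ((pullback.fst (W p).ι (W q).ι ≫ (W p).ι) x) ∈ W q
      rw [pullback.condition, Scheme.Hom.comp_apply]
      exact (pullback.snd (W p).ι (W q).ι x).2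
    have e1 : π.isoOpensRange.hom ≫ S'.homOfLE hOp = pullback.fst (W p).ι (W q).ι := by
      simp [← cancel_mono (W p).ι, π, O]
    have e2 : π.isoOpensRange.hom ≫ S'.homOfLE hOq = pullback.snd (W p).ι (W q).ι := by
      simp [← cancel_mono (W q).ι, π, O, pullback.condition]
    rw [← e1, ← e2, Category.assoc, Category.assoc]
    congr 1
    have hres : ∀ (r : S') (hr : O ≤ W r),
        IsLift i h' (k ∣_ O) (O.ι ≫ b) ((k ⁻¹ᵁ O).ι ≫ a) (S'.homOfLE hr ≫ c r) := by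
      intro r hr
      refine ⟨?_, by rw [Category.assoc, (hc r).2, Scheme.homOfLE_ι_assoc]⟩
      have : k ∣_ O ≫ S'.homOfLE hr =
          S.homOfLE ((Opens.map k.base).monotone hr) ≫ k ∣_ W r := by
        simp [← cancel_mono (W r).ι]
      rw [reassoc_of% this, (hc r).1, ← Category.assoc, ← Category.assoc, Scheme.homOfLE_ι,
        Category.assoc]
    exact hu _ _ _ _ _ (fot_morphismRestrict hk O) _ _ (hres p hOp) (hres q hOq)
  refine ⟨𝒰.glueMorphisms c hag, ?_, ?_⟩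
  · refine Scheme.hom_ext_of_forall _ _ fun t ↦ ⟨k ⁻¹ᵁ W (k t), hp (k t), ?_⟩
    rw [← morphismRestrict_ι_assoc]
    exact (congrArg (k ∣_ W (k t) ≫ ·) (𝒰.ι_glueMorphisms c hag (k t))).trans
      ((hc (k t)).1.trans (Category.assoc _ _ _))
  · refine lift_ext_of_cover fun p ↦ ⟨W p, hp p, ?_⟩
    exact ((congrArg (· ≫ h') (𝒰.ι_glueMorphisms c hag p)).symm.trans
      (Eq.trans (Category.assoc _ _ _) rfl)).symm.trans (hc p).2

variable {h : Z ⟶ X}

/-- The universal property may be tested on affine test schemes. -/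
theorem isUniv_of_affine_tests (hi : IsFirstOrderThickening i) (w : i ≫ h' = h)
    (H : ∀ (S S' : Scheme.{u}) (k : S ⟶ S') (b : S' ⟶ X) (a : S ⟶ Z), IsAffine S' →
      IsFirstOrderThickening k → k ≫ b = a ≫ h → ∃! a', IsLift i h' k b a a') :
    OmegaSh.IsUnivThickening h i h' := by
  have haff : ∀ (S S' : Scheme.{u}) (k : S ⟶ S') (b : S' ⟶ X) (a : S ⟶ Z) (p : S'),
      IsFirstOrderThickening k → k ≫ b = a ≫ h → ∃ W : S'.Opens, p ∈ W ∧
        ∃! a', IsLift i h' (k ∣_ W) (W.ι ≫ b) ((k ⁻¹ᵁ W).ι ≫ a) a' := by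
    intro S S' k b a p hk hw
    obtain ⟨_, ⟨W, hW, rfl⟩, hpW, -⟩ :=
      S'.isBasis_affineOpens.exists_subset_of_mem_open (Set.mem_univ p) isOpen_univ
    refine ⟨W, hpW, H _ _ _ _ _ hW (fot_morphismRestrict hk W) ?_⟩
    rw [morphismRestrict_ι_assoc, hw, Category.assoc]
  have hu : LiftsUnique i h' := by
    intro S S' k b a hk c d hc hd
    have hw : k ≫ b = a ≫ h := by rw [← hc.2, ← Category.assoc, hc.1, Category.assoc, w]
    refine lift_ext_of_cover fun p ↦ ?_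
    obtain ⟨W, hpW, hex⟩ := haff S S' k b a p hk hw
    exact ⟨W, hpW, hex.unique (hc.restrict W) (hd.restrict W)⟩
  refine ⟨hi, w, fun S S' k b a hk hw ↦ ?_⟩
  obtain ⟨c, hc⟩ := exists_lift_of_cover hu hk fun p ↦ by
    obtain ⟨W, hpW, ⟨c, hc, -⟩⟩ := haff S S' k b a p hk hw
    exact ⟨W, c, hpW, hc⟩
  exact ⟨c, hc, fun d hd ↦ hu S S' k b a hk d c hd hc⟩

/-- An open of the test scheme with prescribed preimage. -/
lemma exists_opens_preimage (hk : IsFirstOrderThickening k) (O : S.Opens) :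
    ∃ W : S'.Opens, k ⁻¹ᵁ W = O := by
  have := isClosedImmersion_of_fot hk
  obtain ⟨W, hW, hWO⟩ := (Scheme.Hom.isEmbedding k).isInducing.isOpen_iff.mp O.2
  exact ⟨⟨W, hW⟩, Opens.ext hWO⟩

/-- The universal property may be tested on a cover of the thickening. -/
theorem isUniv_of_local (hi : IsFirstOrderThickening i) (w : i ≫ h' = h)
    (H : ∀ p : Z', ∃ V' : Z'.Opens, p ∈ V' ∧
      OmegaSh.IsUnivThickening ((i ⁻¹ᵁ V').ι ≫ h) (i ∣_ V') (V'.ι ≫ h')) :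
    OmegaSh.IsUnivThickening h i h' := by
  choose V hpV hV using H
  -- on the part of a test lying over a piece there is exactly one lift
  have key : ∀ (S S' : Scheme.{u}) (k : S ⟶ S') (b : S' ⟶ X) (a : S ⟶ Z) (q : Z') (W : S'.Opens),
      IsFirstOrderThickening k → k ≫ b = a ≫ h → k ⁻¹ᵁ W = a ⁻¹ᵁ (i ⁻¹ᵁ V q) →
        ∃! a', IsLift i h' (k ∣_ W) (W.ι ≫ b) ((k ⁻¹ᵁ W).ι ≫ a) a' := by
    intro S S' k b a q W hk hw hW
    let a₀ := a.resLE (i ⁻¹ᵁ V q) (k ⁻¹ᵁ W) hW.le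
    obtain ⟨c, ⟨hc₁, hc₂⟩, hcu⟩ := (hV q).2.2 _ _ (k ∣_ W) (W.ι ≫ b) a₀
      (fot_morphismRestrict hk W) (by
        rw [morphismRestrict_ι_assoc, hw, Scheme.Hom.resLE_comp_ι_assoc])
    refine ⟨c ≫ (V q).ι, ⟨?_, by rw [Category.assoc, hc₂]⟩, fun d hd ↦ ?_⟩
    · rw [reassoc_of% hc₁, morphismRestrict_ι, Scheme.Hom.resLE_comp_ι_assoc, Category.assoc]
    have hr : Set.range d ⊆ Set.range (V q).ι := by
      rintro _ ⟨p, rfl⟩
      obtain ⟨t, rfl⟩ := exists_point (fot_morphismRestrict hk W) p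
      rw [Scheme.Opens.range_ι]
      refine (preimage_eq hd.1 (V' := V q) t).mpr ?_
      change ((k ⁻¹ᵁ W).ι ≫ a) t ∈ i ⁻¹ᵁ V q
      rw [Scheme.Hom.comp_apply]
      exact hW.le t.2
    rw [← hcu (IsOpenImmersion.lift (V q).ι d hr) ⟨?_, ?_⟩, IsOpenImmersion.lift_fac]
    · rw [← cancel_mono (V q).ι, Category.assoc, IsOpenImmersion.lift_fac, hd.1, Category.assoc,
        Category.assoc, morphismRestrict_ι, Scheme.Hom.resLE_comp_ι_assoc]
    · rw [IsOpenImmersion.lift_fac_assoc, hd.2]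
  have hu : LiftsUnique i h' := by
    intro S S' k b a hk c d hc hd
    have hw : k ≫ b = a ≫ h := by rw [← hc.2, ← Category.assoc, hc.1, Category.assoc, w]
    refine lift_ext_of_cover fun p ↦ ?_
    obtain ⟨t, rfl⟩ := exists_point hk p
    obtain ⟨W, hW⟩ := exists_opens_preimage hk (a ⁻¹ᵁ (i ⁻¹ᵁ V (i (a t))))
    exact ⟨W, show t ∈ k ⁻¹ᵁ W from hW ▸ hpV (i (a t)),
      (key S S' k b a _ W hk hw hW).unique (hc.restrict W) (hd.restrict W)⟩
  refine ⟨hi, w, fun S S' k b a hk hw ↦ ?_⟩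
  obtain ⟨c, hc⟩ := exists_lift_of_cover hu hk fun p ↦ by
    obtain ⟨t, rfl⟩ := exists_point hk p
    obtain ⟨W, hW⟩ := exists_opens_preimage hk (a ⁻¹ᵁ (i ⁻¹ᵁ V (i (a t))))
    obtain ⟨c, hc, -⟩ := key S S' k b a _ W hk hw hW
    exact ⟨W, c, show t ∈ k ⁻¹ᵁ W from hW ▸ hpV (i (a t)), hc⟩
  exact ⟨c, hc, fun d hd ↦ hu S S' k b a hk d c hd hc⟩

end Groth.OmegaSheaf.UnivThick
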