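import Groth.Agent.OmegaSheaf.UnivThick.Unramified

/-!
# Universal first order thickenings are universal on affine charts
-/

universe u

open CategoryTheory Limits AlgebraicGeometry Opposite TopologicalSpace

namespace Groth.OmegaSheaf.UnivThick

variable {Z Z' X : Scheme.{u}} {h : Z ⟶ X} {i : Z ⟶ Z'} {h' : Z' ⟶ X}

/-- Lifts of a map out of a chart of a universal thickening, uniquely. -/
theorem existsUnique_chart_lift (hu : OmegaSh.IsUnivThickening h i h') {U : X.Opens}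
    (hU : IsAffineOpen U) {V : Z'.Opens} (hV : IsAffineOpen V) (e : V ≤ h' ⁻¹ᵁ U)
    (hiV : IsAffineOpen (i ⁻¹ᵁ V)) {A B : CommRingCat.{u}} (p : A ⟶ B)
    (hs : Function.Surjective p) (hk : RingHom.ker p.hom ^ 2 = ⊥)
    (α : Γ(Z, i ⁻¹ᵁ V) ⟶ B) (β : Γ(X, U) ⟶ A)
    (w : h'.appLE U V e ≫ i.app V ≫ α = β ≫ p) :
    ∃! γ : Γ(Z', V) ⟶ A, γ ≫ p = i.app V ≫ α ∧ h'.appLE U V e ≫ γ = β := by
  have hfot := fot_Spec p hs hk
  let b := Spec.map β ≫ hU.fromSpec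
  let a := Spec.map α ≫ hiV.fromSpec
  have hia : a ≫ i = Spec.map (i.app V ≫ α) ≫ hV.fromSpec := by
    rw [Spec.map_comp, Category.assoc, Category.assoc, Scheme.Hom.app_eq_appLE,
      hV.SpecMap_appLE_fromSpec i hiV]
  have hw : Spec.map p ≫ b = a ≫ h := by
    rw [← hu.2.1, reassoc_of% hia, ← hU.SpecMap_appLE_fromSpec h' hV e, ← Spec.map_comp_assoc,
      ← Spec.map_comp_assoc, w]
  have key : ∀ γ : Γ(Z', V) ⟶ A, (γ ≫ p = i.app V ≫ α ∧ h'.appLE U V e ≫ γ = β) ↔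
      (Spec.map p ≫ Spec.map γ ≫ hV.fromSpec = a ≫ i ∧
        (Spec.map γ ≫ hV.fromSpec) ≫ h' = b) := by
    intro γ
    rw [hia, ← Spec.map_comp_assoc, cancel_mono, Category.assoc,
      ← hU.SpecMap_appLE_fromSpec h' hV e, ← Category.assoc, ← Spec.map_comp, cancel_mono]
    exact and_congr ⟨fun h ↦ by rw [h], fun h ↦ Spec.map_injective h⟩
      ⟨fun h ↦ by rw [h], fun h ↦ Spec.map_injective h⟩
  obtain ⟨a', ⟨ha₁, ha₂⟩, hau⟩ := hu.2.2 _ _ (Spec.map p) b a hfot hw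
  have hr : Set.range a' ⊆ Set.range hV.fromSpec := by
    rintro _ ⟨q, rfl⟩
    obtain ⟨t, rfl⟩ := exists_point hfot q
    rw [hV.range_fromSpec, ← Scheme.Hom.comp_apply, ha₁, Scheme.Hom.comp_apply]
    have : hiV.fromSpec (Spec.map α t) ∈ Set.range hiV.fromSpec := ⟨_, rfl⟩
    rw [hiV.range_fromSpec] at this
    rwa [Scheme.Hom.comp_apply]
  obtain ⟨γ, hγ⟩ := Spec.map_surjective (IsOpenImmersion.lift hV.fromSpec a' hr)
  have hγ' : Spec.map γ ≫ hV.fromSpec = a' := by rw [hγ, IsOpenImmersion.lift_fac]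
  refine ⟨γ, (key γ).mpr ⟨by rw [hγ', ha₁], by rw [hγ', ha₂]⟩, fun δ hδ ↦ Spec.map_injective ?_⟩
  rw [← cancel_mono hV.fromSpec, hγ']
  exact hau _ ((key δ).mp hδ)

/-- The rings of a chart of a universal thickening form a universal thickening. -/
theorem isUnivRing_of_isUniv (hu : OmegaSh.IsUnivThickening h i h') {U : X.Opens}
    (hU : IsAffineOpen U) {V : Z'.Opens} (hV : IsAffineOpen V) (e : V ≤ h' ⁻¹ᵁ U)
    (hiV : IsAffineOpen (i ⁻¹ᵁ V)) [Algebra Γ(X, U) Γ(Z', V)] [Algebra Γ(X, U) Γ(Z, i ⁻¹ᵁ V)]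
    (hA : ∀ r, algebraMap Γ(X, U) Γ(Z', V) r = h'.appLE U V e r)
    (π : Γ(Z', V) →ₐ[Γ(X, U)] Γ(Z, i ⁻¹ᵁ V)) (hπ : ∀ x, π x = i.app V x) :
    OmegaSh.IsUnivThickeningRing Γ(X, U) Γ(Z, i ⁻¹ᵁ V) Γ(Z', V) π := by
  have := isClosedImmersion_of_fot hu.1
  refine ⟨fun y ↦ ?_, ?_, fun A _ _ I hI a ↦ ?_⟩
  · obtain ⟨x, hx⟩ := i.app_surjective V hV y
    exact ⟨x, (hπ x).trans hx⟩
  · rw [pow_two, ← le_bot_iff, Ideal.mul_le]
    exact fun x hx y hy ↦ mul_eq_zero_of_app hu.1 ((hπ x).symm.trans hx) ((hπ y).symm.trans hy)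
  let p : CommRingCat.of A ⟶ CommRingCat.of (A ⧸ I) := CommRingCat.ofHom (Ideal.Quotient.mk I)
  let α : Γ(Z, i ⁻¹ᵁ V) ⟶ CommRingCat.of (A ⧸ I) := CommRingCat.ofHom a.toRingHom
  let β : Γ(X, U) ⟶ CommRingCat.of A := CommRingCat.ofHom (algebraMap Γ(X, U) A)
  obtain ⟨γ, ⟨hγ₁, hγ₂⟩, hγu⟩ := existsUnique_chart_lift hu hU hV e hiV p
    Ideal.Quotient.mk_surjective (by
      change RingHom.ker (Ideal.Quotient.mk I) ^ 2 = ⊥
      rw [Ideal.mk_ker, hI]) α β (by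
      ext r
      change a (i.app V (h'.appLE U V e r)) = Ideal.Quotient.mk I (algebraMap Γ(X, U) A r)
      rw [← hA, ← hπ, AlgHom.commutes, AlgHom.commutes]
      rfl)
  refine ⟨{ toRingHom := γ.hom, commutes' := fun r ↦ ?_ }, AlgHom.ext fun x ↦ ?_, fun δ hδ ↦
    AlgHom.ext fun x ↦ congr($(hγu (CommRingCat.ofHom δ.toRingHom) ⟨?_, ?_⟩) x)⟩
  · rw [hA]; exact congr($hγ₂ r)
  · change Ideal.Quotient.mk I (γ x) = a (π x)
    rw [hπ]
    exact congr($hγ₁ x)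
  · ext x
    change Ideal.Quotient.mk I (δ x) = a (i.app V x)
    rw [← hπ]
    exact DFunLike.congr_fun hδ x
  · ext r
    change δ (h'.appLE U V e r) = algebraMap Γ(X, U) A r
    rw [← hA, AlgHom.commutes]

end Groth.OmegaSheaf.UnivThick
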