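import Groth.Agent.OmegaSheaf.UnivThick.BaseChange
import Groth.Agent.OmegaSheaf.ConormalTrans

/-!
# The universal thickening of a composition, and charts for its transitivity sequence
-/

universe u

open CategoryTheory Limits AlgebraicGeometry Opposite TopologicalSpace

namespace Groth.OmegaSheaf.UnivThick

variable {Z Y X Z' Y' Z'' : Scheme.{u}} {i : Z ⟶ Y} {b : Y ⟶ X} {i' : Z ⟶ Z'} {c : Z' ⟶ X}
  {j : Y ⟶ Y'} {d : Y' ⟶ X} {m : Z' ⟶ Y'} {i'' : Z ⟶ Z''} {e : Z'' ⟶ Y} {n : Z'' ⟶ Z'}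

/-- The pullback of the universal thickening of `Y` to that of `Z` is universal over `Y`. -/
theorem isUniv_pullback_lift (hZ : OmegaSh.IsUnivThickening (i ≫ b) i' c)
    (hY : OmegaSh.IsUnivThickening b j d) (hm₁ : i' ≫ m = i ≫ j) (hm₂ : m ≫ d = c) :
    OmegaSh.IsUnivThickening i (pullback.lift i i' hm₁.symm) (pullback.fst j m) := by
  refine ⟨?_, pullback.lift_fst _ _ _, fun T T' k b' a' hk hw ↦ ?_⟩
  · have := isClosedImmersion_of_fot hY.1
    refine fot_of_comp _ (pullback.snd j m) ?_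
    rw [pullback.lift_snd]
    exact hZ.1
  obtain ⟨z, ⟨hz₁, hz₂⟩, hzu⟩ := hZ.2.2 T T' k (b' ≫ b) a' hk (by
    rw [← Category.assoc, hw, Category.assoc])
  have hzm : b' ≫ j = z ≫ m := by
    refine (hY.2.2 T T' k (b' ≫ b) (a' ≫ i) hk ?_).unique ⟨?_, ?_⟩ ⟨?_, ?_⟩
    · rw [← Category.assoc, hw]
    · rw [← Category.assoc, hw]
    · rw [Category.assoc, hY.2.1]
    · rw [← Category.assoc, hz₁, Category.assoc, hm₁, Category.assoc]
    · rw [Category.assoc, hm₂, hz₂]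
  refine ⟨pullback.lift b' z hzm, ⟨?_, pullback.lift_fst _ _ _⟩, fun e he ↦ ?_⟩
  · apply pullback.hom_ext
    · rw [Category.assoc, Category.assoc, pullback.lift_fst, pullback.lift_fst, hw]
    · rw [Category.assoc, Category.assoc, pullback.lift_snd, pullback.lift_snd, hz₁]
  · apply pullback.hom_ext
    · rw [pullback.lift_fst]; exact he.2
    · rw [pullback.lift_snd]
      refine hzu _ ⟨?_, ?_⟩
      · rw [← Category.assoc, he.1, Category.assoc, pullback.lift_snd]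
      · calc (e ≫ pullback.snd j m) ≫ c = e ≫ pullback.snd j m ≫ m ≫ d := by
              rw [hm₂, Category.assoc]
          _ = b' ≫ b := by
              rw [← pullback.condition_assoc, hY.2.1, ← Category.assoc, he.2]

/-- The thickening of `Z` over `Y` is `Y ×_{Y'} Z'`. -/
theorem isPullback_trans (hZ : OmegaSh.IsUnivThickening (i ≫ b) i' c)
    (hY : OmegaSh.IsUnivThickening b j d) (hm₁ : i' ≫ m = i ≫ j) (hm₂ : m ≫ d = c)
    (hZ'' : OmegaSh.IsUnivThickening i i'' e) (hn₁ : i'' ≫ n = i') (hn₂ : n ≫ c = e ≫ b) :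
    IsPullback e n j m := by
  obtain ⟨φ, hφ₁, hφ₂⟩ := exists_iso (isUniv_pullback_lift hZ hY hm₁ hm₂) hZ''
  have hn : φ.hom ≫ pullback.snd j m = n := by
    refine (hZ.2.2 Z Z'' i'' (e ≫ b) (𝟙 Z) hZ''.1 ?_).unique ⟨?_, ?_⟩ ⟨?_, hn₂⟩
    · rw [← Category.assoc, hZ''.2.1, Category.id_comp]
    · rw [← Category.assoc, hφ₁, pullback.lift_snd, Category.id_comp]
    · rw [Category.assoc, ← hm₂, ← pullback.condition_assoc, hY.2.1, ← Category.assoc, hφ₂]
    · rw [hn₁, Category.id_comp]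
  have h : n ≫ m = e ≫ j := by
    rw [← hn, ← hφ₂, Category.assoc, Category.assoc, pullback.condition]
  exact IsPullback.of_iso_pullback ⟨h.symm⟩ φ hφ₂ hn

/-- The thickening of `Z` over `Y` sits in that over `X` as a closed subscheme. -/
lemma isClosedImmersion_trans (hY : OmegaSh.IsUnivThickening b j d)
    (sq : IsPullback e n j m) : IsClosedImmersion n :=
  MorphismProperty.of_isPullback sq (isClosedImmersion_of_fot hY.1)

/-- Charts for the transitivity sequence. -/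
theorem exists_transChart [IsClosedImmersion i'] [IsClosedImmersion j] (sq : IsPullback e n j m)
    (z : Z) :
    ∃ (W : Y'.Opens) (W' : Z'.Opens) (h : W' ≤ m ⁻¹ᵁ W), i' z ∈ W' ∧
      Groth.OmegaSheaf.IsConormalChart i' W' ∧ IsAffineOpen (n ⁻¹ᵁ W') ∧
      Function.Surjective (n.app W') ∧
      RingHom.ker (n.app W').hom ≤ (RingHom.ker (j.app W).hom).map (m.appLE W W' h).hom := by
  have : IsClosedImmersion n := MorphismProperty.of_isPullback sq ‹IsClosedImmersion j›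
  obtain ⟨_, ⟨W, hW, rfl⟩, hzW, -⟩ := Y'.isBasis_affineOpens.exists_subset_of_mem_open
    (Set.mem_univ (m (i' z))) isOpen_univ
  obtain ⟨_, ⟨W', hW', rfl⟩, hzW', hle⟩ := Z'.isBasis_affineOpens.exists_subset_of_mem_open
    (show i' z ∈ m ⁻¹ᵁ W from hzW) (m ⁻¹ᵁ W).2
  have hle' : W' ≤ m ⁻¹ᵁ W := hle
  refine ⟨W, W', hle', hzW', ⟨hW', hW'.preimage i', i'.app_surjective W' hW'⟩, hW'.preimage n,
    n.app_surjective W' hW', ?_⟩
  have eT : n ⁻¹ᵁ W' ≤ e ⁻¹ᵁ (j ⁻¹ᵁ W) := by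
    rw [← Scheme.Hom.comp_preimage e j, sq.w]
    exact n.preimage_mono hle'
  have hUY : n ⁻¹ᵁ W' = n ⁻¹ᵁ W' ⊓ e ⁻¹ᵁ (j ⁻¹ᵁ W) := (inf_eq_left.mpr eT).symm
  have hpo := ((isIso_pushoutSection_iff (H := sq.flip) le_rfl hle' hUY).mp
    (isIso_pushoutSection_of_isAffineOpen sq.flip le_rfl hle' hUY hW (hW.preimage j) hW')).flip
  have hker := Groth.OmegaSheaf.ker_le_map_of_isPushout hpo
    (by rw [← Scheme.Hom.app_eq_appLE]; exact j.app_surjective W hW)
  rwa [← Scheme.Hom.app_eq_appLE, ← Scheme.Hom.app_eq_appLE] at hker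

end Groth.OmegaSheaf.UnivThick
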