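import Groth.Agent.OmegaSheaf.UnivThick.Affine
import Mathlib.RingTheory.Unramified.Basic
import Mathlib.AlgebraicGeometry.Morphisms.FormallyUnramified
import Mathlib.Algebra.TrivSqZeroExt.Basic
import Mathlib.RingTheory.Kaehler.Basic

/-!
# Universal first order thickenings are formally unramified
-/

universe u

open CategoryTheory Limits AlgebraicGeometry Opposite TopologicalSpace

namespace Groth.OmegaSheaf.UnivThick

open MoreMor (IsFirstOrderThickening)

/-- If maps out of `S'` which agree modulo a square-zero ideal and kill `K` modulo it are equal,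
then `S'` is formally unramified. -/
theorem formallyUnramified_of_uniqLift {R S' : Type u} [CommRing R] [CommRing S'] [Algebra R S']
    (K : Ideal S') (hK : K ^ 2 = ⊥)
    (huniq : ∀ (C : Type u) [CommRing C] [Algebra R C] (I : Ideal C) (g₁ g₂ : S' →ₐ[R] C),
      I ^ 2 = ⊥ → (∀ x ∈ K, g₁ x ∈ I) → (∀ x, g₁ x - g₂ x ∈ I) → g₁ = g₂) :
    Algebra.FormallyUnramified R S' := by
  refine Algebra.FormallyUnramified.iff_comp_injective.mpr fun C _ _ J hJ g₁ g₂ hg ↦ ?_
  have hgJ : ∀ x, g₁ x - g₂ x ∈ J := fun x ↦ Ideal.Quotient.eq.mp (DFunLike.congr_fun hg x)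
  let L : Ideal C := K.map g₁.toRingHom
  have hL : L * L = ⊥ := by rw [← Ideal.map_mul, ← pow_two, hK, Ideal.map_bot]
  have hJJ : J * J = ⊥ := by rw [← pow_two, hJ]
  have hP : (L * J) * (L * J) = ⊥ := by rw [mul_mul_mul_comm, hL, Ideal.bot_mul]
  -- first step: the difference lands in `L * J`
  let q := Ideal.Quotient.mkₐ R (L * J)
  have h1 : q.comp g₁ = q.comp g₂ := by
    refine huniq _ ((J ⊔ L).map (Ideal.Quotient.mk (L * J))) _ _ ?_
      (fun x hx ↦ Ideal.mem_map_of_mem _ (Ideal.mem_sup_right (Ideal.mem_map_of_mem g₁.toRingHom hx)))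
      (fun x ↦ by
        change Ideal.Quotient.mk _ (g₁ x) - Ideal.Quotient.mk _ (g₂ x) ∈ _
        rw [← map_sub]
        exact Ideal.mem_map_of_mem _ (Ideal.mem_sup_left (hgJ x)))
    rw [← Ideal.map_pow, Ideal.map_eq_bot_iff_le_ker, Ideal.mk_ker, pow_two, Ideal.sup_mul,
      Ideal.mul_sup, Ideal.mul_sup, hJJ, hL, Ideal.mul_comm J L]
    simp
  have h2 : ∀ x, g₁ x - g₂ x ∈ L * J := fun x ↦ Ideal.Quotient.eq.mp (DFunLike.congr_fun h1 x)
  -- second step
  refine huniq C (L * J ⊔ L) g₁ g₂ ?_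
    (fun x hx ↦ Ideal.mem_sup_right (Ideal.mem_map_of_mem g₁.toRingHom hx))
    (fun x ↦ Ideal.mem_sup_left (h2 x))
  rw [pow_two, Ideal.sup_mul, Ideal.mul_sup, Ideal.mul_sup, hP, hL,
    show L * J * L = ⊥ by rw [mul_right_comm, hL, Ideal.bot_mul],
    show L * (L * J) = ⊥ by rw [← mul_assoc, hL, Ideal.bot_mul]]
  simp

/-- Ring level universal thickenings are formally unramified over the base. -/
theorem formallyUnramified_of_ring {R S S' : Type u} [CommRing R] [CommRing S] [CommRing S']
    [Algebra R S] [Algebra R S'] {π : S' →ₐ[R] S} (hπ : OmegaSh.IsUnivThickeningRing R S S' π) :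
    Algebra.FormallyUnramified R S' := by
  refine formallyUnramified_of_uniqLift (RingHom.ker π.toRingHom) hπ.2.1
    fun C _ _ I g₁ g₂ hI hK hg ↦ ?_
  let a : S →ₐ[R] C ⧸ I := AlgHom.liftOfSurjective π hπ.1 ((Ideal.Quotient.mkₐ R I).comp g₁)
    fun x hx ↦ Ideal.Quotient.eq_zero_iff_mem.mpr (hK x hx)
  have ha : a.comp π = (Ideal.Quotient.mkₐ R I).comp g₁ := AlgHom.liftOfSurjective_comp _ _ _ _
  refine (hπ.2.2 C I hI a).unique ha.symm ?_
  rw [ha]
  exact AlgHom.ext fun x ↦ (Ideal.Quotient.eq.mpr (hg x)).symm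

/-- The structure map of a universal first order thickening is formally unramified. -/
theorem formallyUnramified_of_isUniv {Z Z' X : Scheme.{u}} {h : Z ⟶ X} {i : Z ⟶ Z'} {h' : Z' ⟶ X}
    (hu : OmegaSh.IsUnivThickening h i h') : FormallyUnramified h' := by
  refine ⟨fun {U} hU {V} hV e ↦ ?_⟩
  let _ := (h'.appLE U V e).hom.toAlgebra
  change (algebraMap Γ(X, U) Γ(Z', V)).FormallyUnramified
  rw [RingHom.formallyUnramified_algebraMap]
  have hcl := isClosedImmersion_of_fot hu.1
  have hi : IsAffineOpen (i ⁻¹ᵁ V) := hV.preimage i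
  have hsurj := i.app_surjective V hV
  refine formallyUnramified_of_uniqLift (RingHom.ker (i.app V).hom) ?_
    fun C _ _ I g₁ g₂ hI hK hg ↦ ?_
  · rw [pow_two, ← le_bot_iff, Ideal.mul_le]
    exact fun x hx y hy ↦ mul_eq_zero_of_app hu.1 hx hy
  let ā : Γ(Z, i ⁻¹ᵁ V) →+* C ⧸ I := RingHom.liftOfSurjective (i.app V).hom hsurj
    ⟨(Ideal.Quotient.mk I).comp g₁.toRingHom, fun x hx ↦ Ideal.Quotient.eq_zero_iff_mem.mpr (hK x hx)⟩
  have hā : ∀ x, ā (i.app V x) = Ideal.Quotient.mk I (g₁ x) := fun x ↦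
    RingHom.liftOfRightInverse_comp_apply _ _ _ _ _
  let p : CommRingCat.of C ⟶ CommRingCat.of (C ⧸ I) := CommRingCat.ofHom (Ideal.Quotient.mk I)
  have hk : IsFirstOrderThickening (Spec.map p) :=
    fot_Spec p Ideal.Quotient.mk_surjective (by
      change RingHom.ker (Ideal.Quotient.mk I) ^ 2 = ⊥
      rw [Ideal.mk_ker, hI])
  let lift : (Γ(Z', V) →ₐ[Γ(X, U)] C) → (Spec (CommRingCat.of C) ⟶ Z') := fun g ↦
    Spec.map (CommRingCat.ofHom g.toRingHom) ≫ hV.fromSpec
  let b : Spec (CommRingCat.of C) ⟶ X :=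
    Spec.map (CommRingCat.ofHom (algebraMap Γ(X, U) C)) ≫ hU.fromSpec
  have hb : ∀ g : Γ(Z', V) →ₐ[Γ(X, U)] C, lift g ≫ h' = b := by
    intro g
    have : CommRingCat.ofHom (algebraMap Γ(X, U) C) =
        h'.appLE U V e ≫ CommRingCat.ofHom g.toRingHom := by
      ext r; exact (g.commutes r).symm
    simp only [lift, b, this, Spec.map_comp, Category.assoc]
    rw [← hU.SpecMap_appLE_fromSpec h' hV e]
  let a : Spec (CommRingCat.of (C ⧸ I)) ⟶ Z := Spec.map (CommRingCat.ofHom ā) ≫ hi.fromSpec
  have ha : ∀ g : Γ(Z', V) →ₐ[Γ(X, U)] C, (∀ x, g₁ x - g x ∈ I) →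
      Spec.map p ≫ lift g = a ≫ i := by
    intro g hg'
    have : CommRingCat.ofHom g.toRingHom ≫ p = i.appLE V (i ⁻¹ᵁ V) le_rfl ≫ CommRingCat.ofHom ā := by
      ext x
      change Ideal.Quotient.mk I (g x) = ā (i.appLE V (i ⁻¹ᵁ V) le_rfl x)
      rw [← Scheme.Hom.app_eq_appLE, hā]
      exact (Ideal.Quotient.eq.mpr (hg' x)).symm
    simp only [lift, a]
    rw [← Category.assoc, ← Spec.map_comp, this, Spec.map_comp, Category.assoc, Category.assoc,
      hV.SpecMap_appLE_fromSpec i hi le_rfl]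
  have h1 := ha g₁ (fun x ↦ by rw [sub_self]; exact zero_mem _)
  have key := (hu.2.2 _ _ (Spec.map p) b a hk (by
      rw [← hb g₁, ← Category.assoc, h1, Category.assoc, hu.2.1])).unique
    (y₁ := lift g₁) (y₂ := lift g₂) ⟨h1, hb g₁⟩ ⟨ha g₂ hg, hb g₂⟩
  have := Spec.map_injective ((cancel_mono hV.fromSpec).mp key)
  exact AlgHom.ext fun x ↦ congr($this x)

variable (R A B B' : Type u) [CommRing R] [CommRing A] [CommRing B] [CommRing B'] [Algebra R A]
  [Algebra A B] [Algebra A B'] [Algebra R B'] [IsScalarTower R A B'] [Algebra B' B]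
  [IsScalarTower A B' B]

open TensorProduct KaehlerDifferential in
/-- `B ⊗ Ω_{A/R} ≅ B ⊗ Ω_{B'/R}` for a universal first order thickening `B' → B` over `A`. -/
theorem mapBaseChange_baseChange_bijective
    (h : OmegaSh.IsUnivThickeningRing A B B' (IsScalarTower.toAlgHom A B' B)) :
    Function.Bijective ((KaehlerDifferential.mapBaseChange R A B').baseChange B) := by
  have := formallyUnramified_of_ring h
  have hsurj : Function.Surjective (KaehlerDifferential.mapBaseChange R A B') := fun x ↦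
    (KaehlerDifferential.exact_mapBaseChange_map R A B' x).mp (Subsingleton.elim _ _)
  refine ⟨?_, LinearMap.lTensor_surjective B hsurj⟩
  let P := B ⊗[B'] (B' ⊗[A] Ω[A⁄R])
  have : IsCentralScalar B P := ⟨fun b x ↦ by
    induction x using TensorProduct.induction_on with
    | zero => simp
    | add p q hp hq => rw [smul_add, smul_add, hp, hq]
    | tmul c w => rw [smul_tmul', smul_tmul', op_smul_eq_smul]⟩
  let _ : Algebra R B := ((algebraMap B' B).comp (algebraMap R B')).toAlgebra
  have : IsScalarTower R B' B := IsScalarTower.of_algebraMap_eq fun _ ↦ rfl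
  have hRAB : ∀ r, algebraMap A B (algebraMap R A r) = algebraMap R B r := fun r ↦ by
    change _ = algebraMap B' B (algebraMap R B' r)
    rw [IsScalarTower.algebraMap_apply A B' B, ← IsScalarTower.algebraMap_apply R A B']
  let δ : A → P := fun x ↦ (1 : B) ⊗ₜ[B'] ((1 : B') ⊗ₜ[A] D R A x)
  have hδmul : ∀ x y : A, δ (x * y) = algebraMap A B x • δ y + algebraMap A B y • δ x := by
    intro x y
    have key : ∀ (c : A) (w : Ω[A⁄R]),
        (1 : B) ⊗ₜ[B'] ((1 : B') ⊗ₜ[A] (c • w)) = algebraMap A B c • ((1 : B) ⊗ₜ[B'] ((1 : B') ⊗ₜ[A] w)) := by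
      intro c w
      rw [tmul_smul, ← algebraMap_smul B' c ((1 : B') ⊗ₜ[A] w), tmul_smul,
        IsScalarTower.algebraMap_apply A B' B, algebraMap_smul]
      exact (algebraMap_smul B' c ((1 : B) ⊗ₜ[B'] ((1 : B') ⊗ₜ[A] w))).symm.trans
        (algebraMap_smul B (algebraMap A B' c) ((1 : B) ⊗ₜ[B'] ((1 : B') ⊗ₜ[A] w))).symm
    simp only [δ, Derivation.leibniz, tmul_add, key]
  let φ : A →+* TrivSqZeroExt B P :=
    { toFun := fun x ↦ TrivSqZeroExt.inl (algebraMap A B x) + TrivSqZeroExt.inr (δ x)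
      map_one' := by
        refine TrivSqZeroExt.ext (by simp) ?_
        simp [δ]
      map_mul' := fun x y ↦ by
        refine TrivSqZeroExt.ext (by simp) ?_
        rw [TrivSqZeroExt.snd_mul]
        simp [hδmul]
      map_zero' := by simp [δ]
      map_add' := fun x y ↦ by
        refine TrivSqZeroExt.ext (by simp) ?_
        simp [δ, tmul_add]
        abel }
  let _ : Algebra A (TrivSqZeroExt B P) := φ.toAlgebra
  let I : Ideal (TrivSqZeroExt B P) := RingHom.ker (TrivSqZeroExt.fstHom B B P).toRingHom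
  have hI : I ^ 2 = ⊥ := by
    rw [pow_two, ← le_bot_iff, Ideal.mul_le]
    intro x hx y hy
    have hx' : x.fst = 0 := hx
    have hy' : y.fst = 0 := hy
    rw [Ideal.mem_bot]
    refine TrivSqZeroExt.ext (by simp [hx']) ?_
    rw [TrivSqZeroExt.snd_mul, hx', hy']
    simp
  let a : B →ₐ[A] TrivSqZeroExt B P ⧸ I :=
    { toRingHom := (Ideal.Quotient.mk I).comp (TrivSqZeroExt.inlHom B P)
      commutes' := fun x ↦ Ideal.Quotient.eq.mpr (by
        change (TrivSqZeroExt.inl (algebraMap A B x) - φ x).fst = 0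
        simp [φ]) }
  obtain ⟨g, hg, -⟩ := h.2.2 _ I hI a
  have hfst : ∀ x, (g x).fst = algebraMap B' B x := fun x ↦ by
    have h1 : (g x - TrivSqZeroExt.inl (algebraMap B' B x)).fst = 0 :=
      Ideal.Quotient.eq.mp (DFunLike.congr_fun hg x)
    rw [TrivSqZeroExt.fst_sub, TrivSqZeroExt.fst_inl] at h1
    exact sub_eq_zero.mp h1
  let lin : B' →ₗ[R] P :=
    { toFun := fun x ↦ (g x).snd
      map_add' := fun x y ↦ by simp
      map_smul' := fun r x ↦ by
        have h1 : g (r • x) = φ (algebraMap R A r) * g x := by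
          rw [Algebra.smul_def, map_mul, IsScalarTower.algebraMap_apply R A B', g.commutes]; rfl
        simp only [RingHom.id_apply]
        rw [h1, TrivSqZeroExt.snd_mul]
        simp [φ, δ, hRAB, algebraMap_smul] }
  let E : Derivation R B' P := Derivation.mk' lin fun x y ↦ by
    change (g (x * y)).snd = x • (g y).snd + y • (g x).snd
    rw [map_mul, TrivSqZeroExt.snd_mul, hfst, hfst, op_smul_eq_smul, algebraMap_smul, algebraMap_smul]
  have hE : ∀ x : A, E (algebraMap A B' x) = δ x := fun x ↦ by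
    change (g (algebraMap A B' x)).snd = δ x
    rw [g.commutes]
    change (φ x).snd = δ x
    simp [φ]
  let ψ : B ⊗[B'] Ω[B'⁄R] →ₗ[B'] P :=
    TensorProduct.lift (LinearMap.mk₂ B' (fun b w ↦ b • E.liftKaehlerDifferential w)
      (fun b b' w ↦ add_smul _ _ _) (fun c b w ↦ smul_assoc c b _)
      (fun b w w' ↦ by rw [map_add, smul_add])
      (fun c b w ↦ by rw [map_smul, smul_comm]))
  have hψ : ∀ w, ψ ((KaehlerDifferential.mapBaseChange R A B').baseChange B w) = w := by
    intro w
    induction w using TensorProduct.induction_on with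
    | zero => simp
    | add p q hp hq => rw [map_add, map_add, hp, hq]
    | tmul b z =>
      induction z using TensorProduct.induction_on with
      | zero => simp
      | add p q hp hq => rw [tmul_add, map_add, map_add, hp, hq]
      | tmul c w =>
        have key : ∀ w, E.liftKaehlerDifferential (KaehlerDifferential.map R R A B' w) =
            (1 : B) ⊗ₜ[B'] ((1 : B') ⊗ₜ[A] w) := by
          intro w
          have hw : w ∈ Submodule.span A (Set.range (D R A)) := by
            rw [KaehlerDifferential.span_range_derivation]; trivial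
          induction hw using Submodule.span_induction with
          | mem v hv =>
            obtain ⟨x, rfl⟩ := hv
            rw [KaehlerDifferential.map_D, Derivation.liftKaehlerDifferential_comp_D, hE]
          | zero => simp
          | add p q _ _ hp hq => rw [map_add, map_add, hp, hq, tmul_add, tmul_add]
          | smul r p _ hp =>
            rw [map_smul, ← algebraMap_smul B' r (KaehlerDifferential.map R R A B' p), map_smul, hp,
              tmul_smul, ← algebraMap_smul B' r ((1 : B') ⊗ₜ[A] p), tmul_smul]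
        change b • E.liftKaehlerDifferential (KaehlerDifferential.mapBaseChange R A B' (c ⊗ₜ w)) = _
        rw [KaehlerDifferential.mapBaseChange_tmul, map_smul, key, ← tmul_smul, smul_tmul',
          smul_eq_mul, mul_one, smul_tmul', smul_eq_mul, mul_one]
  intro p q hpq
  rw [← hψ p, ← hψ q, hpq]

end Groth.OmegaSheaf.UnivThick
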